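import Mathlib

/-!
Generating functions of graded index types.
-/

namespace Groth.Agent.CurveU5Lib.Count

open PowerSeries

/-- The generating function of a degree function with finite fibres. -/
noncomputable def gen {ι : Type*} (deg : ι → ℕ) : PowerSeries ℤ :=
  PowerSeries.mk fun d ↦ (Nat.card {i // deg i = d} : ℤ)

theorem finite_prod {ι κ : Type*} {f : ι → ℕ} {g : κ → ℕ} (hf : ∀ d, Finite {i // f i = d})
    (hg : ∀ d, Finite {j // g j = d}) (d : ℕ) : Finite {p : ι × κ // f p.1 + g p.2 = d} := by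
  let e : {p : ι × κ // f p.1 + g p.2 = d} ≃
      Σ a : Finset.HasAntidiagonal.antidiagonal d, {i // f i = a.1.1} × {j // g j = a.1.2} :=
    { toFun := fun p ↦ ⟨⟨(f p.1.1, g p.1.2), Finset.HasAntidiagonal.mem_antidiagonal.mpr p.2⟩,
        ⟨p.1.1, rfl⟩, ⟨p.1.2, rfl⟩⟩
      invFun := fun x ↦ ⟨(x.2.1.1, x.2.2.1), by
        rw [x.2.1.2, x.2.2.2]; exact Finset.HasAntidiagonal.mem_antidiagonal.mp x.1.2⟩
      left_inv := fun p ↦ rfl
      right_inv := by
        rintro ⟨⟨⟨a, b⟩, hab⟩, ⟨i, hi⟩, ⟨j, hj⟩⟩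
        simp only at hi hj
        subst hi hj
        rfl }
  exact Finite.of_equiv _ e.symm

theorem gen_prod {ι κ : Type*} {f : ι → ℕ} {g : κ → ℕ} (hf : ∀ d, Finite {i // f i = d})
    (hg : ∀ d, Finite {j // g j = d}) :
    gen (fun p : ι × κ ↦ f p.1 + g p.2) = gen f * gen g := by
  refine PowerSeries.ext fun d ↦ ?_
  let e : {p : ι × κ // f p.1 + g p.2 = d} ≃
      Σ a : Finset.HasAntidiagonal.antidiagonal d, {i // f i = a.1.1} × {j // g j = a.1.2} :=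
    { toFun := fun p ↦ ⟨⟨(f p.1.1, g p.1.2), Finset.HasAntidiagonal.mem_antidiagonal.mpr p.2⟩,
        ⟨p.1.1, rfl⟩, ⟨p.1.2, rfl⟩⟩
      invFun := fun x ↦ ⟨(x.2.1.1, x.2.2.1), by
        rw [x.2.1.2, x.2.2.2]; exact Finset.HasAntidiagonal.mem_antidiagonal.mp x.1.2⟩
      left_inv := fun p ↦ rfl
      right_inv := by
        rintro ⟨⟨⟨a, b⟩, hab⟩, ⟨i, hi⟩, ⟨j, hj⟩⟩
        simp only at hi hj
        subst hi hj
        rfl }
  rw [PowerSeries.coeff_mul]
  simp only [gen, PowerSeries.coeff_mk]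
  rw [Nat.card_congr e, Nat.card_sigma]
  push_cast
  simp only [Nat.card_prod, Nat.cast_mul]
  exact Finset.sum_coe_sort (Finset.HasAntidiagonal.antidiagonal d)
    fun a : ℕ × ℕ ↦ (Nat.card {i // f i = a.1} : ℤ) * (Nat.card {j // g j = a.2} : ℤ)

theorem gen_congr {ι κ : Type*} (e : ι ≃ κ) {f : ι → ℕ} {g : κ → ℕ} (h : ∀ i, g (e i) = f i) :
    gen f = gen g := by
  refine PowerSeries.ext fun d ↦ ?_
  simp only [gen, PowerSeries.coeff_mk]
  rw [Nat.card_congr (e.subtypeEquiv (q := fun j ↦ g j = d) fun i ↦ by rw [h])]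

theorem gen_id : gen (id : ℕ → ℕ) = PowerSeries.mk fun _ ↦ (1 : ℤ) := by
  refine PowerSeries.ext fun d ↦ ?_
  simp [gen]

theorem finite_tuples : ∀ (n d : ℕ), Finite {s : Fin n → ℕ // ∑ i, s i = d} := by
  intro n
  induction n with
  | zero => intro d; exact Subtype.finite
  | succ n ih =>
    intro d
    have h := finite_prod (ι := ℕ) (f := id) (g := fun s : Fin n → ℕ ↦ ∑ i, s i)
      (fun d ↦ Finite.of_equiv Unit ⟨fun _ ↦ ⟨d, rfl⟩, fun _ ↦ (), fun _ ↦ rfl, fun x ↦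
        Subtype.ext x.2.symm⟩) ih d
    exact Finite.of_equiv _ ((Fin.consEquiv fun _ : Fin (n + 1) ↦ ℕ).subtypeEquiv
      (p := fun p ↦ id p.1 + ∑ i, p.2 i = d) (q := fun s ↦ ∑ i, s i = d)
      fun p ↦ by simp [Fin.sum_univ_succ])

theorem gen_tuples : ∀ n : ℕ,
    gen (fun s : Fin n → ℕ ↦ ∑ i, s i) = (PowerSeries.mk fun _ ↦ (1 : ℤ)) ^ n := by
  intro n
  induction n with
  | zero =>
    refine PowerSeries.ext fun d ↦ ?_
    rcases d with _ | d <;> simp [gen, PowerSeries.coeff_one]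
  | succ n ih =>
    rw [pow_succ', ← ih, ← gen_id, ← gen_prod (f := (id : ℕ → ℕ)) (fun d ↦ Finite.of_equiv Unit
      ⟨fun _ ↦ ⟨d, rfl⟩, fun _ ↦ (), fun _ ↦ rfl, fun x ↦ Subtype.ext x.2.symm⟩) (finite_tuples n)]
    exact (gen_congr (Fin.consEquiv fun _ : Fin (n + 1) ↦ ℕ) fun p ↦ by
      simp [Fin.sum_univ_succ]).symm

end Groth.Agent.CurveU5Lib.Count
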