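import Mathlib

/-!
Adjoining a variable `z` with `(b - ε b) z = φ b` to a free algebra: the module `B × R[z]`
with the operators of multiplication.
-/

namespace Groth.Agent.CurveU5Lib.Ext

universe u
open Polynomial

variable {R B : Type u} [CommRing R] [CommRing B] [Algebra R B]
  (ε : B →ₐ[R] R) (φ : B →ₗ[R] B)

/-- Multiplication by the new variable. -/
noncomputable def opZ : Module.End R (B × R[X]) where
  toFun w := (φ w.1, C (ε w.1) + X * w.2)
  map_add' v w := Prod.ext (map_add φ _ _) (by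
    show C (ε (v.1 + w.1)) + X * (v.2 + w.2) = (C (ε v.1) + X * v.2) + (C (ε w.1) + X * w.2)
    rw [map_add, map_add]; ring)
  map_smul' r w := Prod.ext (map_smul φ _ _) (by
    show C (ε (r • w.1)) + X * (r • w.2) = r • (C (ε w.1) + X * w.2)
    rw [map_smul, smul_eq_mul, map_mul, smul_add, smul_eq_C_mul, smul_eq_C_mul, smul_eq_C_mul]
    ring)

/-- Multiplication by an element of `B`. -/
noncomputable def opB (b : B) : Module.End R (B × R[X]) where
  toFun w := (b * w.1, 0) + Polynomial.aeval (opZ ε φ) w.2 (opZ ε φ (b, 0))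
  map_add' v w := by
    simp only [Prod.fst_add, Prod.snd_add, map_add, mul_add, LinearMap.add_apply]
    rw [show ((b * v.1 + b * w.1, 0) : B × R[X]) = (b * v.1, 0) + (b * w.1, 0) by simp]
    abel
  map_smul' r w := by
    simp only [Prod.smul_fst, Prod.smul_snd, map_smul, LinearMap.smul_apply, RingHom.id_apply,
      smul_add, Prod.smul_mk, Algebra.mul_smul_comm, smul_zero]

lemma aeval_zero_one (f : R[X]) :
    Polynomial.aeval (opZ ε φ) f ((0, 1) : B × R[X]) = (0, f) := by
  induction f using Polynomial.induction_on with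
  | C r => simp [Algebra.algebraMap_eq_smul_one, smul_eq_C_mul]
  | add p q hp hq => simp [hp, hq]
  | monomial n r ih =>
    rw [show C r * X ^ (n + 1) = X * (C r * X ^ n) by ring, map_mul, Polynomial.aeval_X,
      Module.End.mul_apply, ih]
    show (φ 0, C (ε 0) + X * (C r * X ^ n)) = _
    simp

lemma opB_fst (b b' : B) : opB ε φ b (b', 0) = (b * b', 0) := by
  show (b * b', 0) + Polynomial.aeval (opZ ε φ) 0 (opZ ε φ (b, 0)) = _
  simp

lemma opB_snd (b : B) (f : R[X]) :
    opB ε φ b (0, f) = Polynomial.aeval (opZ ε φ) f (opZ ε φ (b, 0)) := by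
  show (b * 0, 0) + Polynomial.aeval (opZ ε φ) f (opZ ε φ (b, 0)) = _
  rw [mul_zero, Prod.mk_zero_zero, zero_add]

variable (hφ : ∀ b b', φ (b * b') = b * φ b' + ε b' • φ b)

include hφ in
lemma opB_comm (b : B) (w : B × R[X]) :
    opB ε φ b (opZ ε φ w) = opZ ε φ (opB ε φ b w) := by
  obtain ⟨b', f⟩ := w
  have h1 : ((b', f) : B × R[X]) = (b', 0) + (0, f) := by simp
  rw [h1, map_add, map_add, map_add, map_add]
  congr 1
  · rw [opB_fst]
    show opB ε φ b (φ b', C (ε b') + X * 0) = (φ (b * b'), C (ε (b * b')) + X * 0)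
    rw [mul_zero, add_zero, add_zero]
    show (b * φ b', 0) + Polynomial.aeval (opZ ε φ) (C (ε b')) (opZ ε φ (b, 0)) = _
    rw [Polynomial.aeval_C, Algebra.algebraMap_eq_smul_one, LinearMap.smul_apply,
      Module.End.one_apply]
    show (b * φ b', 0) + ε b' • (φ b, C (ε b) + X * 0) = _
    rw [hφ, map_mul, map_mul, mul_zero, add_zero, Prod.smul_mk, Prod.mk_add_mk, zero_add,
      smul_eq_C_mul]
    exact Prod.ext rfl (mul_comm _ _)
  · show opB ε φ b (φ 0, C (ε 0) + X * f) = _
    rw [map_zero, map_zero, map_zero, zero_add, opB_snd, opB_snd, map_mul, Polynomial.aeval_X]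
    rfl

include hφ in
lemma opB_aeval (b : B) (f : R[X]) (w : B × R[X]) :
    opB ε φ b (Polynomial.aeval (opZ ε φ) f w) = Polynomial.aeval (opZ ε φ) f (opB ε φ b w) := by
  have : Commute (opB ε φ b) (opZ ε φ) := LinearMap.ext (opB_comm ε φ hφ b)
  have h2 : Commute (opB ε φ b) (Polynomial.aeval (opZ ε φ) f) := by
    induction f using Polynomial.induction_on with
    | C r => rw [Polynomial.aeval_C]; exact (Algebra.commutes r _).symm
    | add p q hp hq => rw [map_add]; exact hp.add_right hq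
    | monomial n r _ =>
      rw [map_mul, map_pow, Polynomial.aeval_X, Polynomial.aeval_C]
      exact Commute.mul_right (Algebra.commutes r _).symm (this.pow_right _)
  exact LinearMap.congr_fun h2 w

include hφ in
lemma opB_mul (b b' : B) : opB ε φ (b * b') = opB ε φ b * opB ε φ b' := by
  refine LinearMap.ext fun w ↦ ?_
  obtain ⟨x, f⟩ := w
  have h1 : ((x, f) : B × R[X]) = (x, 0) + (0, f) := by simp
  rw [h1, map_add, map_add, Module.End.mul_apply, Module.End.mul_apply, opB_fst, opB_fst, opB_fst,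
    opB_snd, opB_snd, opB_aeval ε φ hφ, opB_comm ε φ hφ, opB_fst, mul_assoc]

include hφ in
lemma phi_one : φ 1 = 0 := by
  have := hφ 1 1
  simpa using this

include hφ in
lemma opB_one : opB ε φ 1 = 1 := by
  refine LinearMap.ext fun w ↦ ?_
  obtain ⟨x, f⟩ := w
  show (1 * x, 0) + Polynomial.aeval (opZ ε φ) f (φ 1, C (ε 1) + X * 0) = _
  rw [phi_one ε φ hφ, map_one, map_one, mul_zero, add_zero, aeval_zero_one]
  simp

/-- The action of `B`. -/
noncomputable def rho : B →+* Module.End R (B × R[X]) where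
  toFun := opB ε φ
  map_one' := opB_one ε φ hφ
  map_mul' := opB_mul ε φ hφ
  map_zero' := by
    refine LinearMap.ext fun w ↦ ?_
    obtain ⟨x, f⟩ := w
    show (0 * x, 0) + Polynomial.aeval (opZ ε φ) f (opZ ε φ (0, 0)) = (0, 0)
    rw [Prod.mk_zero_zero, map_zero, map_zero, zero_mul, Prod.mk_zero_zero, add_zero]
  map_add' b b' := by
    refine LinearMap.ext fun w ↦ ?_
    obtain ⟨x, f⟩ := w
    show ((b + b') * x, 0) + Polynomial.aeval (opZ ε φ) f (opZ ε φ (b + b', 0)) =
      ((b * x, 0) + Polynomial.aeval (opZ ε φ) f (opZ ε φ (b, 0))) +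
        ((b' * x, 0) + Polynomial.aeval (opZ ε φ) f (opZ ε φ (b', 0)))
    rw [show ((b + b', 0) : B × R[X]) = (b, 0) + (b', 0) by simp, map_add, map_add,
      show (((b + b') * x, 0) : B × R[X]) = (b * x, 0) + (b' * x, 0) by simp [add_mul]]
    abel

/-- The action of `B[z]`. -/
noncomputable def chi : B[X] →+* Module.End R (B × R[X]) :=
  Polynomial.eval₂RingHom' (rho ε φ hφ) (opZ ε φ) fun b ↦ LinearMap.ext (opB_comm ε φ hφ b)

lemma chi_C (b : B) (w : B × R[X]) : chi ε φ hφ (C b) w = opB ε φ b w := by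
  simp [chi, rho]

lemma chi_C_one (b : B) : chi ε φ hφ (C b) (1, 0) = (b, 0) := by
  rw [chi_C, opB_fst, mul_one]

lemma chi_C_mul_X_one (b : B) : chi ε φ hφ (C b * X) (1, 0) = (φ b, C (ε b)) := by
  rw [map_mul, Module.End.mul_apply]
  have : chi ε φ hφ X = opZ ε φ := by simp [chi]
  rw [this, chi_C, opB_comm ε φ hφ, opB_fst, mul_one]
  show (φ b, C (ε b) + X * 0) = _
  simp

lemma chi_X_pow_one (n : ℕ) : chi ε φ hφ (X ^ (n + 1)) (1, 0) = (0, X ^ n) := by
  have hX : chi ε φ hφ X = opZ ε φ := by simp [chi]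
  induction n with
  | zero =>
    rw [zero_add, pow_one, hX, pow_zero]
    show (φ 1, C (ε 1) + X * 0) = _
    rw [phi_one ε φ hφ]; simp
  | succ n ih =>
    rw [pow_succ', map_mul, Module.End.mul_apply, ih, hX]
    show (φ 0, C (ε 0) + X * X ^ n) = _
    simp [pow_succ']

section Twisted

variable {ι : Type*}

/-- The operator `(b, r) ↦ (y b + r p_y, ε_y r)`. -/
noncomputable def opT (y p : B) (e : R) : Module.End R (B × R) where
  toFun w := (y * w.1 + w.2 • p, e * w.2)
  map_add' v w := Prod.ext (by simp only [Prod.fst_add, Prod.snd_add, mul_add, add_smul]; abel)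
    (by simp only [Prod.snd_add, mul_add])
  map_smul' r w := Prod.ext
    (by simp only [Prod.smul_fst, Prod.smul_snd, RingHom.id_apply, Algebra.mul_smul_comm, smul_add,
      smul_smul, smul_eq_mul])
    (by simp only [Prod.smul_snd, RingHom.id_apply, smul_eq_mul]; ring)

lemma opT_comm {y p y' p' : B} {e e' : R}
    (h : (y - algebraMap R B e) * p' = (y' - algebraMap R B e') * p) :
    opT y p e * opT y' p' e' = opT y' p' e' * opT y p e := by
  refine LinearMap.ext fun w ↦ Prod.ext ?_ ?_
  · show y * (y' * w.1 + w.2 • p') + (e' * w.2) • p = y' * (y * w.1 + w.2 • p) + (e * w.2) • p'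
    simp only [Algebra.smul_def, map_mul]
    linear_combination (algebraMap R B w.2) * h
  · show e * (e' * w.2) = e' * (e * w.2)
    ring

/-- A twisted derivation on a polynomial ring. -/
theorem exists_twisted (q : MvPolynomial ι R →ₐ[R] B) (E : ι → R) (P : ι → B)
    (sym : ∀ y y', (q (MvPolynomial.X y) - algebraMap R B (E y)) * P y' =
      (q (MvPolynomial.X y') - algebraMap R B (E y')) * P y) :
    ∃ δ : MvPolynomial ι R →ₗ[R] B, δ 1 = 0 ∧ (∀ y, δ (MvPolynomial.X y) = P y) ∧
      ∀ p p', δ (p * p') = q p * δ p' + MvPolynomial.aeval E p' • δ p := by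
  let T : ι → Module.End R (B × R) := fun y ↦ opT (q (MvPolynomial.X y)) (P y) (E y)
  have hT : ∀ a ∈ Set.range T, ∀ b ∈ Set.range T, a * b = b * a := by
    rintro _ ⟨y, rfl⟩ _ ⟨y', rfl⟩
    exact opT_comm (sym y y')
  letI : CommRing (Algebra.adjoin R (Set.range T)) :=
    Algebra.adjoinCommRingOfComm R hT
  let Θ : MvPolynomial ι R →ₐ[R] Module.End R (B × R) :=
    (Algebra.adjoin R (Set.range T)).val.comp
      (MvPolynomial.aeval fun y ↦ ⟨T y, Algebra.subset_adjoin ⟨y, rfl⟩⟩)
  have hX : ∀ y, Θ (MvPolynomial.X y) = T y := fun y ↦ by simp [Θ]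
  let δ : MvPolynomial ι R →ₗ[R] B :=
    (LinearMap.fst R B R).comp ((LinearMap.applyₗ ((0, 1) : B × R)).comp Θ.toLinearMap)
  have key : ∀ p b r, Θ p (b, r) = (q p * b + r • δ p, MvPolynomial.aeval E p * r) := by
    intro p
    induction p using MvPolynomial.induction_on with
    | C s =>
      intro b r
      have hC : Θ (MvPolynomial.C s) = algebraMap R _ s := Θ.commutes s
      have hδ : δ (MvPolynomial.C s) = 0 := by
        show (Θ (MvPolynomial.C s) (0, 1)).1 = 0
        rw [hC]; simp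
      rw [hC, hδ]
      simp [Algebra.smul_def, show q (MvPolynomial.C s) = algebraMap R B s from q.commutes s]
    | add p p' hp hp' =>
      intro b r
      rw [map_add, LinearMap.add_apply, hp, hp', map_add δ, map_add q, map_add, Prod.mk_add_mk]
      simp only [add_mul, smul_add]
      exact Prod.ext (by abel) rfl
    | mul_X p y hp =>
      intro b r
      have h : ∀ b r, Θ (p * MvPolynomial.X y) (b, r) =
          Θ p (q (MvPolynomial.X y) * b + r • P y, E y * r) := fun b r ↦ by
        rw [map_mul, Module.End.mul_apply, hX]; rfl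
      have hδ : δ (p * MvPolynomial.X y) = q p * P y + E y • δ p := by
        show (Θ (p * MvPolynomial.X y) (0, 1)).1 = _
        rw [h, hp]
        simp
      rw [h, hp, hδ, map_mul q, map_mul, MvPolynomial.aeval_X]
      refine Prod.ext ?_ ?_
      · simp only [Algebra.smul_def, map_mul]; ring
      · simp only; ring
  refine ⟨δ, ?_, fun y ↦ ?_, fun p p' ↦ ?_⟩
  · show (Θ 1 (0, 1)).1 = 0
    simp
  · show (Θ (MvPolynomial.X y) (0, 1)).1 = P y
    rw [hX]
    show q (MvPolynomial.X y) * 0 + (1 : R) • P y = P y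
    simp
  · show (Θ (p * p') (0, 1)).1 = _
    rw [map_mul, Module.End.mul_apply]
    have : Θ p' (0, 1) = (δ p', MvPolynomial.aeval E p') := by simp [key p']
    rw [this, key p]

/-- A twisted derivation killing generators of an ideal descends to the quotient. -/
theorem exists_twisted_quot (S : Set (MvPolynomial ι R)) (E : ι → R)
    (P : ι → MvPolynomial ι R ⧸ Ideal.span S)
    (δ : MvPolynomial ι R →ₗ[R] MvPolynomial ι R ⧸ Ideal.span S)
    (hδ : ∀ p p', δ (p * p') =
      Ideal.Quotient.mkₐ R (Ideal.span S) p * δ p' + MvPolynomial.aeval E p' • δ p)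
    (hδX : ∀ y, δ (MvPolynomial.X y) = P y)
    (hE : ∀ s ∈ S, MvPolynomial.aeval E s = 0) (hS : ∀ s ∈ S, δ s = 0) :
    ∃ (ε : (MvPolynomial ι R ⧸ Ideal.span S) →ₐ[R] R)
      (φ : (MvPolynomial ι R ⧸ Ideal.span S) →ₗ[R] (MvPolynomial ι R ⧸ Ideal.span S)),
      (∀ b b', φ (b * b') = b * φ b' + ε b' • φ b) ∧
      (∀ y, ε (Ideal.Quotient.mk _ (MvPolynomial.X y)) = E y) ∧
      (∀ y, φ (Ideal.Quotient.mk _ (MvPolynomial.X y)) = P y) := by
  have hker : ∀ p ∈ Ideal.span S, MvPolynomial.aeval E p = 0 := fun p hp ↦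
    (Ideal.span_le.mpr fun s hs ↦ hE s hs :
      Ideal.span S ≤ RingHom.ker (MvPolynomial.aeval E).toRingHom) hp
  have hkerδ : ∀ p ∈ Ideal.span S, δ p = 0 := by
    intro p hp
    induction hp using Submodule.span_induction with
    | mem s hs => exact hS s hs
    | zero => exact map_zero δ
    | add x y _ _ hx hy => rw [map_add, hx, hy, add_zero]
    | smul a x hxs hx => rw [smul_eq_mul, hδ, hx, hker x hxs, mul_zero, zero_smul, add_zero]
  let ε := Ideal.Quotient.liftₐ (Ideal.span S) (MvPolynomial.aeval E) hker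
  let φ : (MvPolynomial ι R ⧸ Ideal.span S) →ₗ[R] (MvPolynomial ι R ⧸ Ideal.span S) :=
    Submodule.liftQ ((Ideal.span S).restrictScalars R) δ hkerδ
  refine ⟨ε, φ, fun b b' ↦ ?_, fun y ↦ ?_, fun y ↦ hδX y⟩
  · obtain ⟨p, rfl⟩ := Ideal.Quotient.mk_surjective b
    obtain ⟨p', rfl⟩ := Ideal.Quotient.mk_surjective b'
    exact hδ p p'
  · exact MvPolynomial.aeval_X E y

end Twisted

end Groth.Agent.CurveU5Lib.Ext
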