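import Mathlib

/-!
Ring identities behind adjoining one more marked point to the affine curves over `U_n`.
-/

namespace Groth.Agent.CurveU5Lib

universe u
variable {S : Type u} [CommRing S]
  (a c cb C D C₁ D₁ C₂ D₂ g₁ h₁ g₂ h₂ s t : S) (x y z w : S)

/-- The constant term of the cubic. -/
def dd (a c cb C D : S) : S := -(c * (a + C + D)) - C * (cb - c - (a + C + D) * D)

/-- `p₂`. -/
def p2 (c D x y : S) : S := x * y - c + D * x
/-- `p₃`. -/
def p3 (a c cb C D x y : S) : S := x * y - c - (a + C + D) * D + cb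
/-- `p_i`. -/
def pz (c h x y z : S) : S := x * y - c + h * z

theorem sym23 (K : x * y ^ 2 - x ^ 2 * y - a * x * y - (cb - c) * x - c * y - dd a c cb C D = 0) :
    (x - C) * p3 a c cb C D x y = (y - (a + C + D)) * p2 c D x y := by
  simp only [p2, p3, dd] at *; grobner

theorem dd_eq (L : g₁ + h₁ = a + C₁ + D₁ + C + D) (Qc : g₁ * C₁ + h₁ * C - C₁ * C = c)
    (Qb : h₁ * D₁ + g₁ * D - D₁ * D = cb) : dd a c cb C₁ D₁ = dd a c cb C D := by
  simp only [dd]; grobner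

theorem sym2z (L : g₁ + h₁ = a + C₁ + D₁ + C + D) (Qc : g₁ * C₁ + h₁ * C - C₁ * C = c)
    (Qb : h₁ * D₁ + g₁ * D - D₁ * D = cb)
    (R2 : x * z = x * y + C₁ * z + D₁ * x - c)
    (R3 : y * z = x * y + (a + C₁ + D₁) * (z - D₁) + cb - c) :
    (x - C) * pz c h₁ x y z = (z - g₁) * p2 c D x y := by
  simp only [p2, pz]
  linear_combination (x * y - c + C₁ * z) * L + x * Qb - z * Qc +
    (h₁ - D - (a + C₁ + D₁)) * R2 - x * R3

theorem sym3z (L : g₁ + h₁ = a + C₁ + D₁ + C + D) (Qc : g₁ * C₁ + h₁ * C - C₁ * C = c)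
    (Qb : h₁ * D₁ + g₁ * D - D₁ * D = cb)
    (R2 : x * z = x * y + C₁ * z + D₁ * x - c)
    (R3 : y * z = x * y + (a + C₁ + D₁) * (z - D₁) + cb - c) :
    (y - (a + C + D)) * pz c h₁ x y z = (z - g₁) * p3 a c cb C D x y := by
  simp only [p3, pz]
  linear_combination (x * y - c + (C₁ - D) * z + h₁ * D₁ + g₁ * D - C₁ * D₁) * L +
    (D₁ - z) * Qc + (z - (g₁ + h₁ - C₁)) * Qb + (h₁ - C₁) * R3 - y * R2

theorem symzw (L1 : g₁ + h₁ = a + C₁ + D₁ + C + D) (L2 : g₂ + h₂ = a + C₂ + D₂ + C + D)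
    (T1 : h₂ * t + g₂ * h₁ - h₁ * t + (a + C₁ + D₁) * C₁ = c)
    (T2 : h₁ * s + g₁ * h₂ - h₂ * s + (a + C₂ + D₂) * C₂ = c)
    (hd : dd a c cb C₂ D₂ = dd a c cb C₁ D₁)
    (R2z : x * z = x * y + C₁ * z + D₁ * x - c)
    (R3z : y * z = x * y + (a + C₁ + D₁) * (z - D₁) + cb - c)
    (R2w : x * w = x * y + C₂ * w + D₂ * x - c)
    (R3w : y * w = x * y + (a + C₂ + D₂) * (w - D₂) + cb - c)
    (Rzw : z * w = x * y + s * w + t * z - c) :
    (z - g₁) * pz c h₂ x y w = (w - g₂) * pz c h₁ x y z := by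
  simp only [pz, dd] at *
  linear_combination (x * y - c) * (L2 - L1) + z * T1 - w * T2 + hd + (h₂ - h₁) * Rzw +
    y * R2z + C₁ * R3z - y * R2w - C₂ * R3w

theorem d2z (L : g₁ + h₁ = a + C₁ + D₁ + C + D) (Qb : h₁ * D₁ + g₁ * D - D₁ * D = cb)
    (R2 : x * z = x * y + C₁ * z + D₁ * x - c) :
    x * pz c h₁ x y z + g₁ * p2 c D x y =
      x * p3 a c cb C D x y + (a + C + D) * p2 c D x y + C₁ * pz c h₁ x y z +
        D₁ * p2 c D x y := by
  simp only [p2, p3, pz]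
  linear_combination (x * y - c) * L + x * Qb + h₁ * R2

theorem d3z (L : g₁ + h₁ = a + C₁ + D₁ + C + D) (Qc : g₁ * C₁ + h₁ * C - C₁ * C = c)
    (Qb : h₁ * D₁ + g₁ * D - D₁ * D = cb)
    (K : x * y ^ 2 - x ^ 2 * y - a * x * y - (cb - c) * x - c * y - dd a c cb C D = 0)
    (R3 : y * z = x * y + (a + C₁ + D₁) * (z - D₁) + cb - c) :
    y * pz c h₁ x y z + g₁ * p3 a c cb C D x y =
      x * p3 a c cb C D x y + (a + C + D) * p2 c D x y +
        (a + C₁ + D₁) * pz c h₁ x y z := by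
  simp only [p2, p3, pz, dd] at *
  linear_combination K + h₁ * R3 + (x * y - c + h₁ * D₁ + g₁ * D - C * D) * L + D * Qc -
    (g₁ + h₁ - C) * Qb

theorem dzw (L2 : g₂ + h₂ = a + C₂ + D₂ + C + D) (L : s + t = a + C₁ + D₁ + C₂ + D₂)
    (T1 : h₂ * t + g₂ * h₁ - h₁ * t + (a + C₁ + D₁) * C₁ = c)
    (hd : dd a c cb C D = dd a c cb C₁ D₁)
    (K : x * y ^ 2 - x ^ 2 * y - a * x * y - (cb - c) * x - c * y - dd a c cb C D = 0)
    (R2z : x * z = x * y + C₁ * z + D₁ * x - c)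
    (R3z : y * z = x * y + (a + C₁ + D₁) * (z - D₁) + cb - c)
    (Rzw : z * w = x * y + s * w + t * z - c) :
    z * pz c h₂ x y w + g₂ * pz c h₁ x y z =
      x * p3 a c cb C D x y + (a + C + D) * p2 c D x y + s * pz c h₂ x y w +
        t * pz c h₁ x y z := by
  simp only [p2, p3, pz, dd] at *
  linear_combination K + (x * y - c) * (L2 - L) + z * T1 + hd + h₂ * Rzw + y * R2z + C₁ * R3z

theorem dK (K : x * y ^ 2 - x ^ 2 * y - a * x * y - (cb - c) * x - c * y - dd a c cb C D = 0) :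
    x * (y + (a + C + D)) * p3 a c cb C D x y + (a + C + D) ^ 2 * p2 c D x y -
      (x ^ 2 * p3 a c cb C D x y + (a + C + D) * (x + C) * p2 c D x y) -
      a * (x * p3 a c cb C D x y + (a + C + D) * p2 c D x y) - (cb - c) * p2 c D x y -
      c * p3 a c cb C D x y = 0 := by
  simp only [p2, p3, dd] at *
  linear_combination x * K

theorem e2z (L : g₁ + h₁ = a + C₁ + D₁ + C + D) (Qc : g₁ * C₁ + h₁ * C - C₁ * C = c) :
    C * g₁ = C * (a + C + D) + C₁ * g₁ + D₁ * C - c := by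
  linear_combination C * L - Qc

theorem e3z (L : g₁ + h₁ = a + C₁ + D₁ + C + D) (Qc : g₁ * C₁ + h₁ * C - C₁ * C = c)
    (Qb : h₁ * D₁ + g₁ * D - D₁ * D = cb) :
    (a + C + D) * g₁ = C * (a + C + D) + (a + C₁ + D₁) * (g₁ - D₁) + cb - c := by
  linear_combination (C - D₁) * L + Qb - Qc

end Groth.Agent.CurveU5Lib
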