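import Groth.Prelude.Def_W4c5m1nsnscurvesI
import Groth.Prelude.Def_W4c5m1nsnscurvesC
import Groth.Agent.CurveU5Lib.Ident
import Groth.Agent.CurveU5Lib.Ext
import Groth.Agent.S18251

/-!
Linear independence of the standard monomials on the affine curves over `U_n`.
-/

namespace Groth.Agent.CurveU5Lib

universe u
open W4c5m1nsnscurves MvPolynomial

variable {R : Type u} [CommRing R] {k : ℕ} (v : UGen k → R) (d : R)

/-- The cubic between `x₂` and `x₃`. -/
noncomputable def cub : MvPolynomial (CVar k) R :=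
  X .x2 * X .x3 ^ 2 - X .x2 ^ 2 * X .x3 - C (v .a) * X .x2 * X .x3 -
    C (v .cb - v .c) * X .x2 - C (v .c) * X .x3 - C d

/-- The relations together with the cubic. -/
noncomputable def rel0 : Set (MvPolynomial (CVar k) R) := insert (cub v d) (CRel R k v)

/-- The algebra. -/
abbrev Alg : Type u := MvPolynomial (CVar k) R ⧸ Ideal.span (rel0 v d)

/-- The class of a variable. -/
noncomputable abbrev bar (y : CVar k) : Alg v d := Ideal.Quotient.mk _ (X y)

/-- The standard monomials. -/
noncomputable def mon (R : Type u) [CommRing R] (k : ℕ) :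
    Option (ℕ ⊕ (CVar k × ℕ)) → MvPolynomial (CVar k) R
  | none => 1
  | some (Sum.inl n) => X .x2 ^ (n + 1) * X .x3
  | some (Sum.inr (y, n)) => X y ^ (n + 1)

/-- Their classes. -/
noncomputable def cm (i : Option (ℕ ⊕ (CVar k × ℕ))) : Alg v d :=
  Ideal.Quotient.mk _ (mon R k i)

local notation "am" => algebraMap R (Alg v d)

lemma mk_C (r : R) : (Ideal.Quotient.mk (Ideal.span (rel0 v d)) (C r) : Alg v d) = am r := rfl

lemma relK : bar v d .x2 * bar v d .x3 ^ 2 - bar v d .x2 ^ 2 * bar v d .x3 -
    am (v .a) * bar v d .x2 * bar v d .x3 - (am (v .cb) - am (v .c)) * bar v d .x2 -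
    am (v .c) * bar v d .x3 - am d = 0 := by
  have := Ideal.Quotient.eq_zero_iff_mem.mpr
    (Ideal.subset_span (Set.mem_insert (cub v d) (CRel R k v)) :
      cub v d ∈ Ideal.span (rel0 v d))
  simpa [cub, mk_C] using this

lemma rel_two (i : Fin k) : bar v d .x2 * bar v d (.xi i) =
    bar v d .x2 * bar v d .x3 + am (v (.ci i)) * bar v d (.xi i) +
      am (v (.cbi i)) * bar v d .x2 - am (v .c) := by
  refine sub_eq_zero.mp ?_
  have := Ideal.Quotient.eq_zero_iff_mem.mpr
    (Ideal.subset_span (Set.mem_insert_of_mem _ (Or.inl (Or.inl ⟨i, rfl⟩))) :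
      _ ∈ Ideal.span (rel0 v d))
  simpa [mk_C] using this

lemma rel_three (i : Fin k) : bar v d .x3 * bar v d (.xi i) =
    bar v d .x2 * bar v d .x3 +
      (am (v .a) + am (v (.ci i)) + am (v (.cbi i))) * (bar v d (.xi i) - am (v (.cbi i))) +
      am (v .cb) - am (v .c) := by
  refine sub_eq_zero.mp ?_
  have := Ideal.Quotient.eq_zero_iff_mem.mpr
    (Ideal.subset_span (Set.mem_insert_of_mem _ (Or.inl (Or.inr ⟨i, rfl⟩))) :
      _ ∈ Ideal.span (rel0 v d))
  simpa [mk_C] using this

lemma rel_pair (i j : Fin k) (h : i ≠ j) : bar v d (.xi i) * bar v d (.xi j) =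
    bar v d .x2 * bar v d .x3 + am (v (.cij i j h)) * bar v d (.xi j) +
      am (v (.cij j i h.symm)) * bar v d (.xi i) - am (v .c) := by
  refine sub_eq_zero.mp ?_
  have := Ideal.Quotient.eq_zero_iff_mem.mpr
    (Ideal.subset_span (Set.mem_insert_of_mem _ (Or.inr ⟨⟨(i, j), h⟩, rfl⟩)) :
      _ ∈ Ideal.span (rel0 v d))
  simpa [mk_C] using this

section URel

variable (hv : ∀ p ∈ URel R k, eval v p = 0)
include hv

lemma lin_rel (i j : Fin k) (h : i ≠ j) : v (.cij i j h) + v (.cij j i h.symm) =
    v .a + v (.ci i) + v (.cbi i) + v (.ci j) + v (.cbi j) := by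
  have := hv _ (Or.inl (Or.inl (Or.inl ⟨⟨(i, j), h⟩, rfl⟩)))
  exact sub_eq_zero.mp (by simpa using this)

lemma c_rel (i j : Fin k) (h : i ≠ j) :
    v (.cij i j h) * v (.ci i) + v (.cij j i h.symm) * v (.ci j) - v (.ci i) * v (.ci j) =
      v .c := by
  have := hv _ (Or.inl (Or.inl (Or.inr ⟨⟨(i, j), h⟩, rfl⟩)))
  simp only [map_sub, map_add, map_mul, eval_X] at this
  linear_combination this

lemma cb_rel (i j : Fin k) (h : i ≠ j) :
    v (.cij j i h.symm) * v (.cbi i) + v (.cij i j h) * v (.cbi j) - v (.cbi i) * v (.cbi j) =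
      v .cb := by
  have := hv _ (Or.inl (Or.inr ⟨⟨(i, j), h⟩, rfl⟩))
  simp only [map_sub, map_add, map_mul, eval_X] at this
  linear_combination this

lemma tri_rel (i j l : Fin k) (hij : i ≠ j) (hjl : j ≠ l) (hil : i ≠ l) :
    v (.cij i j hij) * v (.cij j l hjl) + v (.cij j i hij.symm) * v (.cij i l hil) -
      v (.cij i l hil) * v (.cij j l hjl) +
      (v .a + v (.ci l) + v (.cbi l)) * v (.ci l) = v .c := by
  have := hv _ (Or.inr ⟨⟨(i, j, l), hij, hjl, hil⟩, rfl⟩)
  simp only [map_sub, map_add, map_mul, eval_X] at this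
  linear_combination this

lemma dd_const (i j : Fin k) :
    dd (v .a) (v .c) (v .cb) (v (.ci i)) (v (.cbi i)) =
      dd (v .a) (v .c) (v .cb) (v (.ci j)) (v (.cbi j)) := by
  rcases eq_or_ne i j with rfl | h
  · rfl
  · exact dd_eq _ _ _ _ _ _ _ _ _ (lin_rel v hv i j h) (c_rel v hv i j h) (cb_rel v hv i j h)

end URel

lemma map_dd {S : Type*} [CommRing S] (f : R →+* S) (a c cb C D : R) :
    f (dd a c cb C D) = dd (f a) (f c) (f cb) (f C) (f D) := by
  simp [dd]

/-- The variables of the smaller curve among those of the larger. -/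
def cs : CVar k → CVar (k + 1)
  | .x2 => .x2
  | .x3 => .x3
  | .xi i => .xi i.castSucc

section Step

variable {k : ℕ} (v : UGen (k + 1) → R) (d : R)

/-- The restricted coordinates. -/
abbrev res : UGen k → R := v ∘ UGen.castSucc

lemma res_rel (hv : ∀ p ∈ URel R (k + 1), eval v p = 0) :
    ∀ p ∈ URel R k, eval (res v) p = 0 := fun p hp ↦ by
  rw [← eval_rename]
  exact hv _ (rename_castSucc_mem_URel R k hp)

lemma cne (i : Fin k) : i.castSucc ≠ Fin.last k := (Fin.castSucc_lt_last i).ne

/-- The values of the new character. -/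
def Eg : CVar k → R
  | .x2 => v (.ci (Fin.last k))
  | .x3 => v .a + v (.ci (Fin.last k)) + v (.cbi (Fin.last k))
  | .xi i => v (.cij i.castSucc (Fin.last k) (cne i))

local notation "am'" => algebraMap R (Alg (res v) d)

/-- The values of the new twisted derivation. -/
noncomputable def Pg : CVar k → Alg (res v) d
  | .x2 => p2 (am' (v .c)) (am' (v (.cbi (Fin.last k)))) (bar _ d .x2) (bar _ d .x3)
  | .x3 => p3 (am' (v .a)) (am' (v .c)) (am' (v .cb)) (am' (v (.ci (Fin.last k))))
      (am' (v (.cbi (Fin.last k)))) (bar _ d .x2) (bar _ d .x3)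
  | .xi i => pz (am' (v .c)) (am' (v (.cij (Fin.last k) i.castSucc (cne i).symm)))
      (bar _ d .x2) (bar _ d .x3) (bar _ d (.xi i))

variable (hv : ∀ p ∈ URel R (k + 1), eval v p = 0)
  (hd : ∀ i, dd (v .a) (v .c) (v .cb) (v (.ci i)) (v (.cbi i)) = d)

include hd in
lemma relK' : bar (res v) d .x2 * bar (res v) d .x3 ^ 2 -
    bar (res v) d .x2 ^ 2 * bar (res v) d .x3 -
    am' (v .a) * bar (res v) d .x2 * bar (res v) d .x3 -
    (am' (v .cb) - am' (v .c)) * bar (res v) d .x2 - am' (v .c) * bar (res v) d .x3 -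
    dd (am' (v .a)) (am' (v .c)) (am' (v .cb)) (am' (v (.ci (Fin.last k))))
      (am' (v (.cbi (Fin.last k)))) = 0 := by
  rw [← map_dd, hd]
  exact relK (res v) d

include hv hd in
lemma sym_gen (y y' : CVar k) :
    (bar (res v) d y - am' (Eg v y)) * Pg v d y' = (bar (res v) d y' - am' (Eg v y')) * Pg v d y := by
  have f := fun {x y : R} (h : x = y) ↦ congrArg (am') h
  have h23 := sym23 (am' (v .a)) (am' (v .c)) (am' (v .cb)) (am' (v (.ci (Fin.last k))))
    (am' (v (.cbi (Fin.last k)))) _ _ (relK' v d hd)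
  have h2z : ∀ i : Fin k, _ := fun i ↦ sym2z (am' (v .a)) (am' (v .c)) (am' (v .cb))
    (am' (v (.ci (Fin.last k)))) (am' (v (.cbi (Fin.last k))))
    (am' (v (.ci i.castSucc))) (am' (v (.cbi i.castSucc)))
    (am' (v (.cij i.castSucc (Fin.last k) (cne i))))
    (am' (v (.cij (Fin.last k) i.castSucc (cne i).symm))) _ _ _
    (by simpa [Eg, UGen.castSucc] using f (lin_rel v hv _ _ (cne i))) (by simpa [Eg, UGen.castSucc] using f (c_rel v hv _ _ (cne i)))
    (by simpa [Eg, UGen.castSucc] using f (cb_rel v hv _ _ (cne i))) (rel_two (res v) d i) (rel_three (res v) d i)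
  have h3z : ∀ i : Fin k, _ := fun i ↦ sym3z (am' (v .a)) (am' (v .c)) (am' (v .cb))
    (am' (v (.ci (Fin.last k)))) (am' (v (.cbi (Fin.last k))))
    (am' (v (.ci i.castSucc))) (am' (v (.cbi i.castSucc)))
    (am' (v (.cij i.castSucc (Fin.last k) (cne i))))
    (am' (v (.cij (Fin.last k) i.castSucc (cne i).symm))) _ _ _
    (by simpa [Eg, UGen.castSucc] using f (lin_rel v hv _ _ (cne i))) (by simpa [Eg, UGen.castSucc] using f (c_rel v hv _ _ (cne i)))
    (by simpa [Eg, UGen.castSucc] using f (cb_rel v hv _ _ (cne i))) (rel_two (res v) d i) (rel_three (res v) d i)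
  have hzw : ∀ i j : Fin k, i ≠ j → (bar (res v) d (.xi i) - am' (Eg v (.xi i))) * Pg v d (.xi j)
      = (bar (res v) d (.xi j) - am' (Eg v (.xi j))) * Pg v d (.xi i) := by
    intro i j h
    have h' : i.castSucc ≠ j.castSucc := fun e ↦ h (Fin.castSucc_injective _ e)
    exact symzw (am' (v .a)) _ (am' (v .cb)) (am' (v (.ci (Fin.last k))))
      (am' (v (.cbi (Fin.last k)))) (am' (v (.ci i.castSucc))) (am' (v (.cbi i.castSucc)))
      (am' (v (.ci j.castSucc))) (am' (v (.cbi j.castSucc))) _ _ _ _
      (am' (v (.cij i.castSucc j.castSucc h'))) (am' (v (.cij j.castSucc i.castSucc h'.symm)))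
      _ _ _ _
      (by simpa [Eg, UGen.castSucc] using f (lin_rel v hv _ _ (cne i))) (by simpa [Eg, UGen.castSucc] using f (lin_rel v hv _ _ (cne j)))
      (by simpa [Eg, UGen.castSucc] using f (tri_rel v hv _ _ _ (cne j).symm h'.symm (cne i).symm))
      (by simpa [Eg, UGen.castSucc] using f (tri_rel v hv _ _ _ (cne i).symm h' (cne j).symm))
      (by rw [← map_dd, ← map_dd, hd, hd])
      (rel_two (res v) d i) (rel_three (res v) d i) (rel_two (res v) d j) (rel_three (res v) d j)
      (rel_pair (res v) d i j h)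
  rcases y with _ | _ | i <;> rcases y' with _ | _ | j
  · rfl
  · simpa [Eg, Pg] using h23
  · simpa [Eg, Pg] using h2z j
  · simpa [Eg, Pg] using h23.symm
  · rfl
  · simpa [Eg, Pg] using h3z j
  · simpa [Eg, Pg] using (h2z i).symm
  · simpa [Eg, Pg] using (h3z i).symm
  · rcases eq_or_ne i j with rfl | h
    · rfl
    · exact hzw i j h

include hv hd in
lemma exists_eps_phi : ∃ (ε : Alg (res v) d →ₐ[R] R) (φ : Alg (res v) d →ₗ[R] Alg (res v) d),
    (∀ b b', φ (b * b') = b * φ b' + ε b' • φ b) ∧
      (∀ y, ε (bar (res v) d y) = Eg v y) ∧ (∀ y, φ (bar (res v) d y) = Pg v d y) := by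
  obtain ⟨δ, hδ1, hδX, hδm⟩ := Ext.exists_twisted
    (Ideal.Quotient.mkₐ R (Ideal.span (rel0 (res v) d))) (Eg v) (Pg v d) (sym_gen v d hv hd)
  have hC : ∀ r, δ (C r) = 0 := fun r ↦ by
    rw [show (C r : MvPolynomial (CVar k) R) = r • 1 by simp [smul_eq_C_mul], map_smul, hδ1,
      smul_zero]
  refine Ext.exists_twisted_quot _ _ _ δ hδm hδX ?_ ?_
  · rintro s (rfl | (⟨i, rfl⟩ | ⟨i, rfl⟩) | ⟨q, rfl⟩)
    · simp only [cub, map_sub, map_add, map_mul, map_pow, aeval_X, aeval_C, Eg]
      have := hd (Fin.last k)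
      simp only [dd] at this
      simp only [Algebra.algebraMap_self, RingHom.id_apply, Function.comp_apply, UGen.castSucc]
      linear_combination this
    · simp only [map_sub, map_add, map_mul, aeval_X, aeval_C, Eg, Algebra.algebraMap_self,
        RingHom.id_apply, Function.comp_apply, UGen.castSucc]
      exact sub_eq_zero.mpr (e2z _ _ _ _ _ _ _ _ (lin_rel v hv _ _ (cne i))
        (c_rel v hv _ _ (cne i)))
    · simp only [map_sub, map_add, map_mul, aeval_X, aeval_C, Eg, Algebra.algebraMap_self,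
        RingHom.id_apply, Function.comp_apply, UGen.castSucc]
      exact sub_eq_zero.mpr (e3z _ _ _ _ _ _ _ _ _ (lin_rel v hv _ _ (cne i))
        (c_rel v hv _ _ (cne i)) (cb_rel v hv _ _ (cne i)))
    · obtain ⟨⟨i, j⟩, h⟩ := q
      simp only [map_sub, map_add, map_mul, aeval_X, aeval_C, Eg, Algebra.algebraMap_self,
        RingHom.id_apply, Function.comp_apply, UGen.castSucc]
      have := tri_rel v hv i.castSucc j.castSucc (Fin.last k)
        (fun e ↦ h (Fin.castSucc_injective _ e)) (cne j) (cne i)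
      linear_combination -this
  · have f := fun {x y : R} (h : x = y) ↦ congrArg (am') h
    have K := relK' v d hd
    rintro s (rfl | (⟨i, rfl⟩ | ⟨i, rfl⟩) | ⟨q, rfl⟩)
    · have h := dK _ _ _ _ _ _ _ K
      simp only [cub, map_sub, map_add, hδm, hδX, hC, pow_two, Eg, Pg, map_mul, aeval_X, aeval_C,
        Algebra.algebraMap_self, RingHom.id_apply, Function.comp_apply, UGen.castSucc,
        Ideal.Quotient.mkₐ_eq_mk, mk_C, smul_zero, add_zero, Algebra.smul_def] at h ⊢
      linear_combination h
    · have h := d2z _ _ _ _ _ _ _ _ _ (bar (res v) d .x2) (bar (res v) d .x3)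
        (bar (res v) d (.xi i)) (by simpa [Eg, UGen.castSucc] using f (lin_rel v hv _ _ (cne i)))
        (by simpa [Eg, UGen.castSucc] using f (cb_rel v hv _ _ (cne i))) (rel_two (res v) d i)
      simp only [map_sub, map_add, hδm, hδX, hC, Eg, Pg, map_mul, aeval_X, aeval_C,
        Algebra.algebraMap_self, RingHom.id_apply, Function.comp_apply, UGen.castSucc,
        Ideal.Quotient.mkₐ_eq_mk, mk_C, smul_zero, add_zero, Algebra.smul_def] at h ⊢
      linear_combination h
    · have h := d3z _ _ _ _ _ _ _ _ _ (bar (res v) d .x2) (bar (res v) d .x3)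
        (bar (res v) d (.xi i)) (by simpa [Eg, UGen.castSucc] using f (lin_rel v hv _ _ (cne i)))
        (by simpa [Eg, UGen.castSucc] using f (c_rel v hv _ _ (cne i)))
        (by simpa [Eg, UGen.castSucc] using f (cb_rel v hv _ _ (cne i))) K (rel_three (res v) d i)
      simp only [map_sub, map_add, hδm, hδX, hC, Eg, Pg, map_mul, aeval_X, aeval_C,
        Algebra.algebraMap_self, RingHom.id_apply, Function.comp_apply, UGen.castSucc,
        Ideal.Quotient.mkₐ_eq_mk, mk_C, smul_zero, add_zero, Algebra.smul_def] at h ⊢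
      linear_combination h
    · obtain ⟨⟨i, j⟩, hij⟩ := q
      have h' : i.castSucc ≠ j.castSucc := fun e ↦ hij (Fin.castSucc_injective _ e)
      have h := dzw (am' (v .a)) _ (am' (v .cb)) (am' (v (.ci (Fin.last k))))
        (am' (v (.cbi (Fin.last k)))) (am' (v (.ci i.castSucc))) (am' (v (.cbi i.castSucc)))
        (am' (v (.ci j.castSucc))) (am' (v (.cbi j.castSucc))) _ _ _
        (am' (v (.cij i.castSucc j.castSucc h'))) (am' (v (.cij j.castSucc i.castSucc h'.symm)))
        (bar (res v) d .x2) (bar (res v) d .x3) (bar (res v) d (.xi i)) (bar (res v) d (.xi j))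
        (by simpa [Eg, UGen.castSucc] using f (lin_rel v hv _ _ (cne j))) (by simpa [Eg, UGen.castSucc] using f (lin_rel v hv _ _ h'))
        (by simpa [Eg, UGen.castSucc] using f (tri_rel v hv _ _ _ (cne j).symm h'.symm (cne i).symm))
        (by rw [← map_dd, ← map_dd, hd, hd]) K (rel_two (res v) d i) (rel_three (res v) d i)
        (rel_pair (res v) d i j hij)
      simp only [map_sub, map_add, hδm, hδX, hC, Eg, Pg, map_mul, aeval_X, aeval_C,
        Algebra.algebraMap_self, RingHom.id_apply, Function.comp_apply, UGen.castSucc,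
        Ideal.Quotient.mkₐ_eq_mk, mk_C, smul_zero, add_zero, Algebra.smul_def] at h ⊢
      linear_combination h

/-- The variables of the larger curve in `B[z]`. -/
noncomputable def genPoly : CVar (k + 1) → Polynomial (Alg (res v) d)
  | .x2 => Polynomial.C (bar _ d .x2)
  | .x3 => Polynomial.C (bar _ d .x3)
  | .xi i => Fin.lastCases Polynomial.X (fun j ↦ Polynomial.C (bar _ d (.xi j))) i

lemma genPoly_cs (y : CVar k) : genPoly v d (cs y) = Polynomial.C (bar _ d y) := by
  rcases y with _ | _ | i <;> simp [cs, genPoly]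

lemma genPoly_last : genPoly v d (.xi (Fin.last k)) = Polynomial.X := by simp [genPoly]

/-- The index map to the two summands. -/
def split : Option (ℕ ⊕ (CVar (k + 1) × ℕ)) → Option (ℕ ⊕ (CVar k × ℕ)) ⊕ ℕ
  | none => Sum.inl none
  | some (Sum.inl n) => Sum.inl (some (Sum.inl n))
  | some (Sum.inr (.x2, n)) => Sum.inl (some (Sum.inr (.x2, n)))
  | some (Sum.inr (.x3, n)) => Sum.inl (some (Sum.inr (.x3, n)))
  | some (Sum.inr (.xi i, n)) =>
      Fin.lastCases (Sum.inr n) (fun j ↦ Sum.inl (some (Sum.inr (.xi j, n)))) i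

lemma split_injective : Function.Injective (split (k := k)) := by
  refine Function.HasLeftInverse.injective
    ⟨Sum.elim (Option.map (Sum.map id (Prod.map cs id)))
      (fun n ↦ some (Sum.inr (.xi (Fin.last k), n))), ?_⟩
  rintro (_ | n | ⟨_ | _ | i, n⟩)
  · rfl
  · rfl
  · rfl
  · rfl
  · induction i using Fin.lastCases <;> simp [split, cs]

include hv hd in
/-- The induction step. -/
theorem linearIndependent_succ (hli : LinearIndependent R (cm (res v) d)) :
    LinearIndependent R (cm v d) := by
  obtain ⟨ε, φ, hφ, hεy, hφy⟩ := exists_eps_phi v d hv hd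
  let α := algebraMap R (Alg (res v) d)
  let ψ : MvPolynomial (CVar (k + 1)) R →ₐ[R] Polynomial (Alg (res v) d) := aeval (genPoly v d)
  let χ := Ext.chi ε φ hφ
  have hχsmul : ∀ (r : R) (q : Polynomial (Alg (res v) d)),
      χ (r • q) ((1 : Alg (res v) d), (0 : Polynomial R)) = r • χ q (1, 0) := by
    intro r q
    rw [show r • q = q * Polynomial.C (α r) by
      rw [Algebra.smul_def, Polynomial.algebraMap_apply]; exact mul_comm (G := Polynomial (Alg (res v) d)) _ q, map_mul,
      Module.End.mul_apply, Ext.chi_C_one, show ((algebraMap R (Alg (res v) d) r,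
        (0 : Polynomial R))) = r • ((1 : Alg (res v) d), (0 : Polynomial R)) by
        simp [Algebra.algebraMap_eq_smul_one], map_smul]
  let nf : MvPolynomial (CVar (k + 1)) R →ₗ[R] (Alg (res v) d × Polynomial R) :=
    { toFun := fun p ↦ χ (ψ p) (1, 0)
      map_add' := fun p q ↦ by simp only [map_add, LinearMap.add_apply]
      map_smul' := fun r p ↦ by rw [map_smul, hχsmul, RingHom.id_apply] }
  have hX : χ Polynomial.X ((1 : Alg (res v) d), (0 : Polynomial R)) = (0, 1) := by
    simpa using Ext.chi_X_pow_one ε φ hφ 0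
  have hCX : ∀ b, χ (Polynomial.C b * Polynomial.X) (1, 0) = (φ b, Polynomial.C (ε b)) :=
    Ext.chi_C_mul_X_one ε φ hφ
  have hC : ∀ b, χ (Polynomial.C b) (1, 0) = (b, 0) := Ext.chi_C_one ε φ hφ
  have hψC : ∀ r, ψ (C r) = Polynomial.C (α r) := fun r ↦ by simp [ψ, α]
  have key2 : ∀ (y : CVar k) (A : R), A = Eg v y →
      χ (Polynomial.C (bar _ d y) * Polynomial.X -
        (Polynomial.C (α A) * Polynomial.X + Polynomial.C (Pg v d y))) (1, 0) = 0 := by
    intro y A hA
    rw [map_sub, map_add, LinearMap.sub_apply, LinearMap.add_apply, hCX, hCX, hC, hεy, hφy,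
      AlgHom.commutes, hA]
    have : φ (α (Eg v y)) = 0 := by
      rw [show α (Eg v y) = Eg v y • (1 : Alg (res v) d) from Algebra.algebraMap_eq_smul_one _,
        map_smul, Ext.phi_one ε φ hφ, smul_zero]
    rw [this]
    simp
  have hrel : ∀ s ∈ rel0 v d, χ (ψ s) ((1 : Alg (res v) d), (0 : Polynomial R)) = 0 := by
    have h0 : ∀ b : Alg (res v) d, b = 0 → χ (Polynomial.C b) (1, 0) = 0 := fun b hb ↦ by
      rw [hC, hb]; rfl
    rintro s (rfl | (⟨i, rfl⟩ | ⟨i, rfl⟩) | ⟨q, rfl⟩)
    · rw [show ψ (cub v d) = Polynomial.C (Ideal.Quotient.mk _ (cub (res v) d)) by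
        simp [ψ, cub, genPoly, α, mk_C, UGen.castSucc]]
      exact h0 _ (Ideal.Quotient.eq_zero_iff_mem.mpr (Ideal.subset_span (Set.mem_insert _ _)))
    · induction i using Fin.lastCases with
      | last =>
        refine (congrArg (fun t ↦ χ t (1, 0)) ?_).trans (key2 .x2 _ rfl)
        simp only [map_sub, map_add, map_mul, ψ, aeval_X, aeval_C, genPoly, Eg, Pg, p2,
          Fin.lastCases_last, Fin.lastCases_castSucc, α, Polynomial.algebraMap_apply]
        ring
      | cast j =>
        rw [show ψ _ = Polynomial.C (bar (res v) d .x2 * bar (res v) d (.xi j) -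
          (bar (res v) d .x2 * bar (res v) d .x3 +
            α (v (.ci j.castSucc)) * bar (res v) d (.xi j) +
            α (v (.cbi j.castSucc)) * bar (res v) d .x2 - α (v .c))) by
          simp [ψ, genPoly, α]]
        exact h0 _ (sub_eq_zero.mpr (rel_two (res v) d j))
    · induction i using Fin.lastCases with
      | last =>
        refine (congrArg (fun t ↦ χ t (1, 0)) ?_).trans (key2 .x3 _ rfl)
        simp only [map_sub, map_add, map_mul, ψ, aeval_X, aeval_C, genPoly, Eg, Pg, p3,
          Fin.lastCases_last, Fin.lastCases_castSucc, α, Polynomial.algebraMap_apply]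
        ring
      | cast j =>
        rw [show ψ _ = Polynomial.C (bar (res v) d .x3 * bar (res v) d (.xi j) -
          (bar (res v) d .x2 * bar (res v) d .x3 +
            (α (v .a) + α (v (.ci j.castSucc)) + α (v (.cbi j.castSucc))) *
              (bar (res v) d (.xi j) - α (v (.cbi j.castSucc))) +
            α (v .cb) - α (v .c))) by simp [ψ, genPoly, α]]
        exact h0 _ (sub_eq_zero.mpr (rel_three (res v) d j))
    · obtain ⟨⟨i, j⟩, hij⟩ := q
      induction i using Fin.lastCases with
      | last =>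
        induction j using Fin.lastCases with
        | last => exact absurd rfl hij
        | cast j =>
          refine (congrArg (fun t ↦ χ t (1, 0)) ?_).trans (key2 (.xi j) _ rfl)
          simp only [map_sub, map_add, map_mul, ψ, aeval_X, aeval_C, genPoly, Eg, Pg, pz,
            Fin.lastCases_last, Fin.lastCases_castSucc, α, Polynomial.algebraMap_apply]
          ring
      | cast i =>
        induction j using Fin.lastCases with
        | last =>
          refine (congrArg (fun t ↦ χ t (1, 0)) ?_).trans (key2 (.xi i) _ rfl)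
          simp only [map_sub, map_add, map_mul, ψ, aeval_X, aeval_C, genPoly, Eg, Pg, pz,
            Fin.lastCases_last, Fin.lastCases_castSucc, α, Polynomial.algebraMap_apply]
          ring
        | cast j =>
          have hne : i ≠ j := fun e ↦ hij (congrArg Fin.castSucc e)
          rw [show ψ _ = Polynomial.C (bar (res v) d (.xi i) * bar (res v) d (.xi j) -
            (bar (res v) d .x2 * bar (res v) d .x3 +
              α (v (.cij i.castSucc j.castSucc hij)) * bar (res v) d (.xi j) +
              α (v (.cij j.castSucc i.castSucc hij.symm)) * bar (res v) d (.xi i) -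
              α (v .c))) by simp [ψ, genPoly, α]]
          exact h0 _ (sub_eq_zero.mpr (rel_pair (res v) d i j hne))
  have hker : ∀ p ∈ Ideal.span (rel0 v d), nf p = 0 := by
    intro p hp
    induction hp using Submodule.span_induction with
    | mem s hs => exact hrel s hs
    | zero => exact map_zero nf
    | add x y _ _ hx hy => rw [map_add, hx, hy, add_zero]
    | smul a x _ hx =>
      show χ (ψ (a * x)) (1, 0) = 0
      rw [map_mul, map_mul, Module.End.mul_apply]
      exact (congrArg (χ (ψ a)) hx).trans (map_zero _)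
  refine LinearIndependent.of_comp
    (Submodule.liftQ ((Ideal.span (rel0 v d)).restrictScalars R) nf hker) ?_
  have hsum : LinearIndependent R (Sum.elim
      (LinearMap.inl R (Alg (res v) d) (Polynomial R) ∘ cm (res v) d)
      (LinearMap.inr R (Alg (res v) d) (Polynomial R) ∘ fun n : ℕ ↦ Polynomial.X ^ n)) := by
    refine linearIndependent_inl_union_inr' hli ?_
    have := (Polynomial.basisMonomials R).linearIndependent
    simpa [Polynomial.coe_basisMonomials, Polynomial.monomial_one_right_eq_X_pow] using this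
  refine (congrArg (fun f ↦ LinearIndependent R f) ?_).mpr (hsum.comp _ split_injective)
  funext idx
  show nf (mon R (k + 1) idx) = _
  show χ (ψ (mon R (k + 1) idx)) (1, 0) = _
  rcases idx with _ | n | ⟨_ | _ | i, n⟩
  · simp [mon, split, cm]
  · rw [show ψ (mon R (k + 1) (some (Sum.inl n))) =
      Polynomial.C (cm (res v) d (some (Sum.inl n))) by simp [ψ, mon, cm, genPoly], hC]
    rfl
  · rw [show ψ (mon R (k + 1) (some (Sum.inr (.x2, n)))) =
      Polynomial.C (cm (res v) d (some (Sum.inr (.x2, n)))) by simp [ψ, mon, cm, genPoly], hC]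
    rfl
  · rw [show ψ (mon R (k + 1) (some (Sum.inr (.x3, n)))) =
      Polynomial.C (cm (res v) d (some (Sum.inr (.x3, n)))) by simp [ψ, mon, cm, genPoly], hC]
    rfl
  · induction i using Fin.lastCases with
    | last =>
      rw [show ψ (mon R (k + 1) (some (Sum.inr (.xi (Fin.last k), n)))) = Polynomial.X ^ (n + 1) by
        simp [ψ, mon, genPoly], Ext.chi_X_pow_one]
      simp [split]
    | cast i =>
      rw [show ψ (mon R (k + 1) (some (Sum.inr (.xi i.castSucc, n)))) =
        Polynomial.C (cm (res v) d (some (Sum.inr (.xi i, n)))) by simp [ψ, mon, cm, genPoly], hC]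
      simp [split]

end Step

/-- The base case: no further marked point. -/
theorem linearIndependent_zero (v : UGen 0 → R) (d : R) : LinearIndependent R (cm v d) := by
  let g : CVar 0 → CurveAlg3 R (v .a) (v .cb - v .c) (v .c) d
    | .x2 => Ideal.Quotient.mk _ (X 0)
    | .x3 => Ideal.Quotient.mk _ (X 1)
    | .xi i => i.elim0
  have hker : ∀ p ∈ Ideal.span (rel0 v d), aeval g p = 0 := fun p hp ↦
    (Ideal.span_le.mpr (by
      rintro s (rfl | (⟨i, _⟩ | ⟨i, _⟩) | ⟨q, _⟩)
      · show aeval g (cub v d) = 0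
        simp only [cub, map_sub, map_add, map_mul, map_pow, aeval_X, aeval_C, g]
        simp only [← Ideal.Quotient.mk_algebraMap, ← map_pow, ← map_mul, ← map_add, ← map_sub]
        refine Ideal.Quotient.eq_zero_iff_mem.mpr (Ideal.mem_span_singleton.mpr ⟨1, ?_⟩)
        simp only [MvPolynomial.algebraMap_eq, map_sub]
        ring
      · exact i.elim0
      · exact i.elim0
      · exact q.1.1.elim0) :
      Ideal.span (rel0 v d) ≤ RingHom.ker (aeval g).toRingHom) hp
  let Ψ := Ideal.Quotient.liftₐ (Ideal.span (rel0 v d)) (aeval g) hker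
  refine LinearIndependent.of_comp Ψ.toLinearMap ?_
  let ι3 : Option (ℕ ⊕ (CVar 0 × ℕ)) → Option (ℕ ⊕ (Fin 2 × ℕ)) :=
    Option.map (Sum.map id (Prod.map (fun y ↦ match y with
      | .x2 => (0 : Fin 2)
      | .x3 => 1
      | .xi i => i.elim0) id))
  have hι : Function.Injective ι3 := by
    refine Option.map_injective (Sum.map_injective.mpr ⟨Function.injective_id,
      Function.Injective.prodMap ?_ Function.injective_id⟩)
    rintro (_ | _ | i) (_ | _ | j) h <;> first | rfl | exact i.elim0 | exact j.elim0 |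
      (simp at h)
  refine (congrArg (fun f ↦ LinearIndependent R f) ?_).mpr
    (((S18251.result R (v .a) (v .cb - v .c) (v .c) d).1).comp ι3 hι)
  funext idx
  show aeval g (mon R 0 idx) = _
  rcases idx with _ | n | ⟨_ | _ | i, n⟩
  · simp [mon, ι3, cmon3]
  · simp [mon, ι3, cmon3, g]
  · simp [mon, ι3, cmon3, g]
  · simp [mon, ι3, cmon3, g]
  · exact i.elim0

/-- The standard monomials are independent whenever the relations of `U_n` hold. -/
theorem linearIndependent_cm : ∀ {k : ℕ} (v : UGen k → R) (d : R),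
    (∀ p ∈ URel R k, eval v p = 0) →
    (∀ i, dd (v .a) (v .c) (v .cb) (v (.ci i)) (v (.cbi i)) = d) →
    LinearIndependent R (cm v d)
  | 0, v, d, _, _ => linearIndependent_zero v d
  | _ + 1, v, d, hv, hd => linearIndependent_succ v d hv hd
      (linearIndependent_cm (res v) d (res_rel v hv) fun i ↦ hd i.castSucc)

end Groth.Agent.CurveU5Lib
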