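import Groth.Prelude.Def_W4c5m1nsnscurvesC
import Groth.Agent.CurveU5Lib.Ident

/-!
The standard monomials span the affine curve algebra over any assignment of the coordinates.
-/

namespace Groth.Agent.CurveU5Lib

universe u
open W4c5m1nsnscurves MvPolynomial

variable {R : Type u} [CommRing R] {k : ℕ} (v : UGen k → R)

/-- The class of a variable. -/
noncomputable abbrev cl (y : CVar k) : CurveAlg R k v := Ideal.Quotient.mk _ (X y)

local notation "am" => algebraMap R (CurveAlg R k v)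
local notation "𝒮" => Submodule.span R (Set.range (cmon R k v))

lemma mkC (r : R) : (Ideal.Quotient.mk (Ideal.span (CRel R k v)) (C r) : CurveAlg R k v) = am r :=
  rfl

lemma crel_two (i : Fin k) : cl v .x2 * cl v (.xi i) =
    cl v .x2 * cl v .x3 + am (v (.ci i)) * cl v (.xi i) + am (v (.cbi i)) * cl v .x2 -
      am (v .c) := by
  refine sub_eq_zero.mp ?_
  have := Ideal.Quotient.eq_zero_iff_mem.mpr
    (Ideal.subset_span (Or.inl (Or.inl ⟨i, rfl⟩)) : _ ∈ Ideal.span (CRel R k v))
  simpa [mkC] using this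

lemma crel_three (i : Fin k) : cl v .x3 * cl v (.xi i) =
    cl v .x2 * cl v .x3 +
      (am (v .a) + am (v (.ci i)) + am (v (.cbi i))) * (cl v (.xi i) - am (v (.cbi i))) +
      am (v .cb) - am (v .c) := by
  refine sub_eq_zero.mp ?_
  have := Ideal.Quotient.eq_zero_iff_mem.mpr
    (Ideal.subset_span (Or.inl (Or.inr ⟨i, rfl⟩)) : _ ∈ Ideal.span (CRel R k v))
  simpa [mkC] using this

lemma crel_pair (i j : Fin k) (h : i ≠ j) : cl v (.xi i) * cl v (.xi j) =
    cl v .x2 * cl v .x3 + am (v (.cij i j h)) * cl v (.xi j) +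
      am (v (.cij j i h.symm)) * cl v (.xi i) - am (v .c) := by
  refine sub_eq_zero.mp ?_
  have := Ideal.Quotient.eq_zero_iff_mem.mpr
    (Ideal.subset_span (Or.inr ⟨⟨(i, j), h⟩, rfl⟩) : _ ∈ Ideal.span (CRel R k v))
  simpa [mkC] using this

/-- The cubic holds in the curve algebra. -/
lemma cubic (i : Fin k) :
    cl v .x2 * cl v .x3 ^ 2 - cl v .x2 ^ 2 * cl v .x3 - am (v .a) * cl v .x2 * cl v .x3 -
      (am (v .cb) - am (v .c)) * cl v .x2 - am (v .c) * cl v .x3 -
      dd (am (v .a)) (am (v .c)) (am (v .cb)) (am (v (.ci i))) (am (v (.cbi i))) = 0 := by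
  simp only [dd]
  linear_combination (cl v .x2 - am (v (.ci i))) * crel_three v i -
    (cl v .x3 - (am (v .a) + am (v (.ci i)) + am (v (.cbi i)))) * crel_two v i

lemma smul_mem' (r : R) {x : CurveAlg R k v} (h : x ∈ 𝒮) : am r * x ∈ 𝒮 := by
  rw [← Algebra.smul_def]; exact Submodule.smul_mem _ r h

lemma pow_two_three_mem (n : ℕ) :
    cl v .x2 ^ n ∈ 𝒮 ∧ cl v .x2 ^ n * cl v .x3 ∈ 𝒮 := by
  constructor
  · cases n with
    | zero => exact Submodule.subset_span ⟨none, by simp [cmon]⟩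
    | succ n => exact Submodule.subset_span ⟨some (Sum.inr (.x2, n)), by simp [cmon]⟩
  · cases n with
    | zero => exact Submodule.subset_span ⟨some (Sum.inr (.x3, 0)), by simp [cmon]⟩
    | succ n => exact Submodule.subset_span ⟨some (Sum.inl n), by simp [cmon]⟩

lemma pow_xi_mem (i : Fin k) (n : ℕ) : cl v (.xi i) ^ n ∈ 𝒮 := by
  cases n with
  | zero => exact Submodule.subset_span ⟨none, by simp [cmon]⟩
  | succ n => exact Submodule.subset_span ⟨some (Sum.inr (.xi i, n)), by simp [cmon]⟩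

lemma mixed_mem (i : Fin k) : ∀ m n, cl v .x2 ^ n * cl v (.xi i) ^ m ∈ 𝒮 ∧
    cl v .x2 ^ n * cl v .x3 * cl v (.xi i) ^ m ∈ 𝒮 := by
  intro m
  induction m with
  | zero => intro n; simpa using pow_two_three_mem v n
  | succ m ih =>
    have hA : ∀ n, cl v .x2 ^ n * cl v (.xi i) ^ (m + 1) ∈ 𝒮 := by
      intro n
      induction n with
      | zero => simpa using pow_xi_mem v i (m + 1)
      | succ n ihn =>
        rw [show cl v .x2 ^ (n + 1) * cl v (.xi i) ^ (m + 1) =
          cl v .x2 ^ (n + 1) * cl v .x3 * cl v (.xi i) ^ m +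
            am (v (.ci i)) * (cl v .x2 ^ n * cl v (.xi i) ^ (m + 1)) +
            am (v (.cbi i)) * (cl v .x2 ^ (n + 1) * cl v (.xi i) ^ m) -
            am (v .c) * (cl v .x2 ^ n * cl v (.xi i) ^ m) by
          linear_combination (cl v .x2 ^ n * cl v (.xi i) ^ m) * crel_two v i]
        exact sub_mem (add_mem (add_mem (ih (n + 1)).2 (smul_mem' v _ ihn))
          (smul_mem' v _ (ih (n + 1)).1)) (smul_mem' v _ (ih n).1)
    refine fun n ↦ ⟨hA n, ?_⟩
    rw [show cl v .x2 ^ n * cl v .x3 * cl v (.xi i) ^ (m + 1) =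
      cl v .x2 ^ (n + 1) * cl v .x3 * cl v (.xi i) ^ m +
        am (v .a + v (.ci i) + v (.cbi i)) * (cl v .x2 ^ n * cl v (.xi i) ^ (m + 1)) +
        am (v .cb - v .c - (v .a + v (.ci i) + v (.cbi i)) * v (.cbi i)) *
          (cl v .x2 ^ n * cl v (.xi i) ^ m) by
      simp only [map_add, map_sub, map_mul]
      linear_combination (cl v .x2 ^ n * cl v (.xi i) ^ m) * crel_three v i]
    exact add_mem (add_mem (ih (n + 1)).2 (smul_mem' v _ (hA n))) (smul_mem' v _ (ih n).1)

lemma pair_mem (i j : Fin k) (h : j ≠ i) : ∀ m, cl v (.xi j) * cl v (.xi i) ^ m ∈ 𝒮 := by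
  intro m
  induction m with
  | zero => simpa using pow_xi_mem v j 1
  | succ m ih =>
    rw [show cl v (.xi j) * cl v (.xi i) ^ (m + 1) =
      cl v .x2 ^ 1 * cl v .x3 * cl v (.xi i) ^ m +
        am (v (.cij j i h)) * cl v (.xi i) ^ (m + 1) +
        am (v (.cij i j h.symm)) * (cl v (.xi j) * cl v (.xi i) ^ m) -
        am (v .c) * cl v (.xi i) ^ m by
      linear_combination (cl v (.xi i) ^ m) * crel_pair v j i h]
    exact sub_mem (add_mem (add_mem (mixed_mem v i m 1).2 (smul_mem' v _ (pow_xi_mem v i _)))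
      (smul_mem' v _ ih)) (smul_mem' v _ (pow_xi_mem v i m))

/-- A span closed under multiplication by the generators. -/
lemma mul_mem_of_forall (c : CurveAlg R k v) (h : ∀ idx, c * cmon R k v idx ∈ 𝒮)
    {x : CurveAlg R k v} (hx : x ∈ 𝒮) : c * x ∈ 𝒮 :=
  (Submodule.span_le.mpr (by rintro _ ⟨idx, rfl⟩; exact h idx) :
    𝒮 ≤ (𝒮).comap (LinearMap.mulLeft R c)) hx

theorem span_cmon (hk : 1 ≤ k) : 𝒮 = ⊤ := by
  let i₀ : Fin k := ⟨0, hk⟩
  have hinl : ∀ n, cl v .x3 * (cl v .x2 ^ (n + 1) * cl v .x3) ∈ 𝒮 := by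
    intro n
    rw [show cl v .x3 * (cl v .x2 ^ (n + 1) * cl v .x3) =
      cl v .x2 ^ (n + 2) * cl v .x3 + am (v .a) * (cl v .x2 ^ (n + 1) * cl v .x3) +
        am (v .cb - v .c) * cl v .x2 ^ (n + 1) + am (v .c) * (cl v .x2 ^ n * cl v .x3) +
        am (dd (v .a) (v .c) (v .cb) (v (.ci i₀)) (v (.cbi i₀))) * cl v .x2 ^ n by
      simp only [dd, map_sub, map_neg, map_mul, map_add]
      have := cubic v i₀
      simp only [dd] at this
      linear_combination (cl v .x2 ^ n) * this]
    exact add_mem (add_mem (add_mem (add_mem (pow_two_three_mem v _).2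
      (smul_mem' v _ (pow_two_three_mem v _).2)) (smul_mem' v _ (pow_two_three_mem v _).1))
      (smul_mem' v _ (pow_two_three_mem v _).2)) (smul_mem' v _ (pow_two_three_mem v _).1)
  have hx3pow : ∀ n, cl v .x3 ^ (n + 1) ∈ 𝒮 := fun n ↦
    Submodule.subset_span ⟨some (Sum.inr (.x3, n)), by simp [cmon]⟩
  have h3 : ∀ idx, cl v .x3 * cmon R k v idx ∈ 𝒮 := by
    rintro (_ | n | ⟨_ | _ | i, n⟩)
    · simpa [cmon] using hx3pow 0
    · simpa [cmon] using hinl n
    · simpa [cmon, mul_comm] using (pow_two_three_mem v (n + 1)).2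
    · simpa [cmon, pow_succ'] using hx3pow (n + 1)
    · simpa [cmon] using (mixed_mem v i (n + 1) 0).2
  have h2x3 : ∀ n, cl v .x2 * cl v .x3 ^ (n + 1) ∈ 𝒮 := by
    intro n
    induction n with
    | zero => simpa using (pow_two_three_mem v 1).2
    | succ n ih =>
      rw [pow_succ', mul_left_comm]
      exact mul_mem_of_forall v _ h3 ih
  have h2 : ∀ idx, cl v .x2 * cmon R k v idx ∈ 𝒮 := by
    rintro (_ | n | ⟨_ | _ | i, n⟩)
    · simpa [cmon] using (pow_two_three_mem v 1).1
    · simpa [cmon, pow_succ', mul_assoc] using (pow_two_three_mem v (n + 2)).2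
    · simpa [cmon, pow_succ'] using (pow_two_three_mem v (n + 2)).1
    · simpa [cmon] using h2x3 n
    · simpa [cmon] using (mixed_mem v i (n + 1) 1).1
  have hi : ∀ j idx, cl v (.xi j) * cmon R k v idx ∈ 𝒮 := by
    intro j
    have hx : ∀ n, cl v (.xi j) * cl v .x3 ^ (n + 1) ∈ 𝒮 := by
      intro n
      induction n with
      | zero => simpa [mul_comm] using (mixed_mem v j 1 0).2
      | succ n ih =>
        rw [pow_succ', mul_left_comm]
        exact mul_mem_of_forall v _ h3 ih
    rintro (_ | n | ⟨_ | _ | i, n⟩)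
    · simpa [cmon] using pow_xi_mem v j 1
    · simpa [cmon, mul_comm] using (mixed_mem v j 1 (n + 1)).2
    · simpa [cmon, mul_comm] using (mixed_mem v j 1 (n + 1)).1
    · simpa [cmon] using hx n
    · rcases eq_or_ne j i with rfl | h
      · simpa [cmon, pow_succ'] using pow_xi_mem v j (n + 2)
      · simpa [cmon] using pair_mem v i j h (n + 1)
  rw [eq_top_iff]
  rintro x -
  obtain ⟨p, rfl⟩ := Ideal.Quotient.mk_surjective x
  induction p using MvPolynomial.induction_on with
  | C r =>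
    rw [mkC, ← mul_one (algebraMap R (CurveAlg R k v) r)]
    exact smul_mem' v _ (Submodule.subset_span ⟨none, rfl⟩)
  | add p q hp hq => rw [map_add]; exact add_mem hp hq
  | mul_X p y hp =>
    rw [map_mul, mul_comm]
    rcases y with _ | _ | j
    · exact mul_mem_of_forall v _ h2 hp
    · exact mul_mem_of_forall v _ h3 hp
    · exact mul_mem_of_forall v _ (hi j) hp

end Groth.Agent.CurveU5Lib
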