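import Groth.Agent.CurveU5Lib.Count
import Groth.Agent.S18246
import Groth.Agent.S18252

/-!
A homogeneous basis of the coordinate ring of `U_n`.
-/

namespace Groth.Agent.CurveU5Lib

universe u
open W4c5m1nsnscurves MvPolynomial

variable (R : Type u) [CommRing R] (m : ℕ)

/-- A homogeneous basis with the predicted generating function. -/
def GradedBasis : Prop :=
  ∃ (ι : Type) (deg : ι → ℕ) (b : Module.Basis ι R (URing R m)),
    (∀ d, Finite {i // deg i = d}) ∧ (∀ i, b i ∈ upiece R m (deg i)) ∧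
      Count.gen deg = uhilb m

variable {R m}

lemma ugen_mem_upiece (g : UGen m) : ugen R m g ∈ upiece R m (uwt g) :=
  GrQuot.mk_mem_quot _ _ ((mem_weightedHomogeneousSubmodule R uwt _ _).mpr
    (isWeightedHomogeneous_X R uwt g))

lemma ugen_mem_one (g : UGen m) (hg : uwt g = 1) : ugen R m g ∈ upiece R m 1 := by
  simpa [hg] using ugen_mem_upiece (R := R) g

lemma one_mem_upiece : (1 : URing R m) ∈ upiece R m 0 :=
  GrQuot.mk_mem_quot _ _ (isWeightedHomogeneous_one R uwt)

lemma mul_mem_upiece {i j : ℕ} {x y : URing R m} (hx : x ∈ upiece R m i) (hy : y ∈ upiece R m j) :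
    x * y ∈ upiece R m (i + j) := by
  obtain ⟨p, hp, rfl⟩ := (GrQuot.mem_quot_iff _ _ _ _).mp hx
  obtain ⟨q, hq, rfl⟩ := (GrQuot.mem_quot_iff _ _ _ _).mp hy
  rw [← map_mul]
  exact GrQuot.mk_mem_quot _ _ (MvPolynomial.IsWeightedHomogeneous.mul hp hq)

lemma pow_mem_upiece {i : ℕ} {x : URing R m} (hx : x ∈ upiece R m i) (n : ℕ) :
    x ^ n ∈ upiece R m (n * i) := by
  induction n with
  | zero => rw [pow_zero, Nat.zero_mul]; exact one_mem_upiece
  | succ n ih => rw [pow_succ, Nat.succ_mul]; exact mul_mem_upiece ih hx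

lemma uincl_mem_upiece {d : ℕ} {x : URing R m} (hx : x ∈ upiece R m d) :
    uincl R m x ∈ upiece R (m + 1) d := by
  obtain ⟨p, hp, rfl⟩ := (GrQuot.mem_quot_iff _ _ _ _).mp hx
  rw [show uincl R m (Ideal.Quotient.mk _ p) = Ideal.Quotient.mk _ (rename UGen.castSucc p) from rfl]
  refine GrQuot.mk_mem_quot _ _ ?_
  intro s hs
  obtain ⟨t, rfl, ht⟩ := coeff_rename_ne_zero _ _ _ hs
  rw [Finsupp.weight_apply, Finsupp.sum_mapDomain_index (by simp) (by intros; simp only [smul_eq_mul, add_mul])]
  rw [← hp ht, Finsupp.weight_apply]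
  refine Finsupp.sum_congr fun g _ ↦ ?_
  cases g <;> rfl

/-- The degree of a standard monomial. -/
def cdeg : Option (ℕ ⊕ (CVar m × ℕ)) → ℕ
  | none => 0
  | some (Sum.inl k) => k + 2
  | some (Sum.inr (_, k)) => k + 1

/-- The variables of the curve. -/
def cvarEquiv : CVar m ≃ Fin m ⊕ Fin 2 where
  toFun y := match y with
    | .x2 => Sum.inr 0
    | .x3 => Sum.inr 1
    | .xi i => Sum.inl i
  invFun := Sum.elim (fun i ↦ .xi i) ![.x2, .x3]
  left_inv y := by cases y <;> rfl
  right_inv y := by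
    rcases y with i | j
    · rfl
    · fin_cases j <;> rfl

instance : Fintype (CVar m) := Fintype.ofEquiv _ cvarEquiv.symm

lemma card_cvar : Fintype.card (CVar m) = m + 2 := by
  simp [Fintype.card_congr cvarEquiv]

lemma cdeg_zero : Nat.card {i : Option (ℕ ⊕ (CVar m × ℕ)) // cdeg i = 0} = 1 := by
  have e : {i : Option (ℕ ⊕ (CVar m × ℕ)) // cdeg i = 0} ≃ Unit :=
    { toFun := fun _ ↦ (), invFun := fun _ ↦ ⟨none, rfl⟩, right_inv := fun _ ↦ rfl
      left_inv := by rintro ⟨_ | k | ⟨y, k⟩, h⟩ <;> simp [cdeg] at h; rfl }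
  rw [Nat.card_congr e, Nat.card_unique]

/-- The standard monomials of degree one. -/
def cdegOne : {i : Option (ℕ ⊕ (CVar m × ℕ)) // cdeg i = 1} ≃ CVar m where
  toFun x := match x with
    | ⟨none, h⟩ => absurd h (by simp [cdeg])
    | ⟨some (Sum.inl k), h⟩ => absurd h (by simp [cdeg])
    | ⟨some (Sum.inr (y, _)), _⟩ => y
  invFun y := ⟨some (Sum.inr (y, 0)), rfl⟩
  left_inv := by
    rintro ⟨_ | k | ⟨y, k⟩, h⟩
    · simp [cdeg] at h
    · simp [cdeg] at h
    · obtain rfl : k = 0 := by simpa [cdeg] using h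
      rfl
  right_inv _ := rfl

/-- The standard monomials of higher degree. -/
def cdegTwo (d : ℕ) : {i : Option (ℕ ⊕ (CVar m × ℕ)) // cdeg i = d + 2} ≃ Option (CVar m) where
  toFun x := match x with
    | ⟨none, h⟩ => absurd h (by simp [cdeg])
    | ⟨some (Sum.inl _), _⟩ => none
    | ⟨some (Sum.inr (y, _)), _⟩ => some y
  invFun y := match y with
    | none => ⟨some (Sum.inl d), rfl⟩
    | some y => ⟨some (Sum.inr (y, d + 1)), rfl⟩
  left_inv := by
    rintro ⟨_ | k | ⟨y, k⟩, h⟩
    · simp [cdeg] at h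
    · obtain rfl : k = d := by simpa [cdeg] using h
      rfl
    · obtain rfl : k = d + 1 := by simpa [cdeg] using h
      rfl
  right_inv y := by cases y <;> rfl

lemma finite_cdeg (d : ℕ) : Finite {i : Option (ℕ ⊕ (CVar m × ℕ)) // cdeg i = d} := by
  rcases d with _ | _ | d
  · exact Nat.finite_of_card_ne_zero (by rw [cdeg_zero]; exact one_ne_zero)
  · exact Finite.of_equiv _ cdegOne.symm
  · exact Finite.of_equiv _ (cdegTwo d).symm

lemma gen_cdeg : Count.gen (cdeg (m := m)) =
    (PowerSeries.mk fun _ ↦ (1 : ℤ)) *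
      (1 + PowerSeries.C ((m + 1 : ℕ) : ℤ) * PowerSeries.X + PowerSeries.X ^ 2) := by
  refine PowerSeries.ext fun d ↦ ?_
  rw [mul_add, mul_add, mul_one, map_add, map_add, mul_left_comm, PowerSeries.coeff_C_mul,
    PowerSeries.coeff_mul_X_pow']
  rcases d with _ | _ | d
  · simp [Count.gen, cdeg_zero]
  · rw [PowerSeries.coeff_succ_mul_X]
    simp [Count.gen, Nat.card_congr cdegOne, card_cvar]; ring
  · rw [PowerSeries.coeff_succ_mul_X]
    simp [Count.gen, Nat.card_congr (cdegTwo d), card_cvar]; ring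

theorem gradedBasis_succ (hm : 2 ≤ m) (h : GradedBasis R m) : GradedBasis R (m + 1) := by
  obtain ⟨ι, deg, b, hfin, hmem, hgen⟩ := h
  obtain ⟨e, he, he2, he3, hei⟩ := S18252.result R m (by omega)
  have hbasis := (S18246.result (URing R m) m (by omega) (ugen R m)).mpr S18252.ugen_rel
  let c : Module.Basis _ (URing R m) (CurveAlg (URing R m) m (ugen R m)) :=
    Module.Basis.mk hbasis.1 hbasis.2.ge
  let eR : CurveAlg (URing R m) m (ugen R m) ≃ₐ[R] URing R (m + 1) :=
    AlgEquiv.ofRingEquiv (f := e) fun r ↦ by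
      rw [IsScalarTower.algebraMap_apply R (URing R m) (CurveAlg (URing R m) m (ugen R m)), he,
        AlgHom.commutes]
  refine ⟨ι × Option (ℕ ⊕ (CVar m × ℕ)), fun p ↦ deg p.1 + cdeg p.2,
    (b.smulTower c).map eR.toLinearEquiv, Count.finite_prod hfin finite_cdeg, fun p ↦ ?_, ?_⟩
  · rw [Module.Basis.map_apply, Module.Basis.smulTower_apply]
    show e (b p.1 • c p.2) ∈ _
    rw [show b p.1 • c p.2 =
        algebraMap (URing R m) (CurveAlg (URing R m) m (ugen R m)) (b p.1) * c p.2 from
      Algebra.smul_def (R := URing R m) (A := CurveAlg (URing R m) m (ugen R m)) _ _,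
      map_mul, he, Module.Basis.mk_apply]
    refine mul_mem_upiece (uincl_mem_upiece (hmem p.1)) ?_
    have h2 : e (Ideal.Quotient.mk _ (X CVar.x2)) ∈ upiece R (m + 1) 1 := by
      rw [he2]; exact ugen_mem_one _ rfl
    have h3 : e (Ideal.Quotient.mk _ (X CVar.x3)) ∈ upiece R (m + 1) 1 := by
      rw [he3]
      exact add_mem (add_mem (ugen_mem_one _ rfl) (ugen_mem_one _ rfl)) (ugen_mem_one _ rfl)
    have hy : ∀ y : CVar m, e (Ideal.Quotient.mk _ (X y)) ∈ upiece R (m + 1) 1 := by
      rintro (_ | _ | i)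
      · exact h2
      · exact h3
      · rw [hei]; exact ugen_mem_one _ rfl
    rcases p.2 with _ | k | ⟨y, k⟩
    · show e 1 ∈ _
      rw [map_one]; exact one_mem_upiece
    · show e (Ideal.Quotient.mk _ (X CVar.x2 ^ (k + 1) * X CVar.x3)) ∈ _
      rw [map_mul, map_pow, map_mul e, map_pow e]
      simpa [cdeg] using mul_mem_upiece (pow_mem_upiece h2 (k + 1)) h3
    · show e (Ideal.Quotient.mk _ (X y ^ (k + 1))) ∈ _
      rw [map_pow, map_pow e]
      simpa [cdeg] using pow_mem_upiece (hy y) (k + 1)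
  · rw [Count.gen_prod hfin finite_cdeg, hgen, gen_cdeg]
    simp only [uhilb]
    rw [Finset.prod_Icc_succ_top (by omega : 3 ≤ m + 1), show m + 1 + 4 = (m + 4) + 1 by ring,
      pow_succ]
    ring

/-- The six free coordinates of `U_5`. -/
noncomputable def six (R : Type u) [CommRing R] : Fin 6 → URing R 2 :=
  ![ugen R 2 .a, ugen R 2 (.ci 0), ugen R 2 (.cbi 0), ugen R 2 (.ci 1), ugen R 2 (.cbi 1),
    ugen R 2 (.cij 0 1 Fin.zero_ne_one)]

/-- The values of the generators in six variables. -/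
noncomputable def val6 (R : Type u) [CommRing R] : UGen 2 → MvPolynomial (Fin 6) R
  | .a => X 0
  | .c => (X 0 + X 1 + X 2 + X 3 + X 4 - X 5) * X 3 + X 5 * X 1 - X 1 * X 3
  | .cb => (X 0 + X 1 + X 2 + X 3 + X 4 - X 5) * X 2 + X 5 * X 4 - X 2 * X 4
  | .ci i => if i = 0 then X 1 else X 3
  | .cbi i => if i = 0 then X 2 else X 4
  | .cij i _ _ => if i = 0 then X 5 else X 0 + X 1 + X 2 + X 3 + X 4 - X 5

lemma val6_rel (p : MvPolynomial (UGen 2) R) (hp : p ∈ URel R 2) : aeval (val6 R) p = 0 := by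
  simp only [URel, Set.mem_union, Set.mem_range] at hp
  rcases hp with ((⟨q, rfl⟩ | ⟨q, rfl⟩) | ⟨q, rfl⟩) | ⟨q, rfl⟩
  all_goals first
    | (obtain ⟨⟨i, j, l⟩, h1, h2, h3⟩ := q
       exfalso
       fin_cases i <;> fin_cases j <;> fin_cases l <;> simp_all)
    | (obtain ⟨⟨i, j⟩, h1⟩ := q
       fin_cases i <;> fin_cases j
       · exact absurd rfl h1
       · simp [val6] <;> ring
       · simp [val6] <;> ring
       · exact absurd rfl h1)

/-- `U_5` is affine space. -/
noncomputable def sixEquiv (R : Type u) [CommRing R] : MvPolynomial (Fin 6) R ≃ₐ[R] URing R 2 :=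
  AlgEquiv.ofAlgHom (aeval (six R))
    (Ideal.Quotient.liftₐ (Ideal.span (URel R 2)) (aeval (val6 R)) fun p hp ↦
      (Ideal.span_le.mpr fun q hq ↦ val6_rel q hq :
        Ideal.span (URel R 2) ≤ RingHom.ker (aeval (val6 R)).toRingHom) hp)
    (by
      have hv := S18252.ugen_rel (R := R) (m := 2)
      have L := lin_rel _ hv 1 0 (by decide)
      have Qc := c_rel _ hv 0 1 (by decide)
      have Qb := cb_rel _ hv 0 1 (by decide)
      refine Ideal.Quotient.algHom_ext R (MvPolynomial.algHom_ext fun g ↦ ?_)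
      show aeval (six R) (aeval (val6 R) (X g)) = ugen R 2 g
      rw [aeval_X]
      rcases g with _ | _ | _ | i | i | ⟨i, j, h⟩
      · simp [val6, six]
      · simp [val6, six]
        linear_combination Qc - ugen R 2 (.ci 1) * L
      · simp [val6, six]
        linear_combination Qb - ugen R 2 (.cbi 0) * L
      · fin_cases i <;> simp [val6, six]
      · fin_cases i <;> simp [val6, six]
      · fin_cases i <;> fin_cases j
        · exact absurd rfl h
        · simp [val6, six]
        · simp [val6, six]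
          linear_combination -L
        · exact absurd rfl h)
    (by
      refine MvPolynomial.algHom_ext fun i ↦ ?_
      fin_cases i <;> simp [six, ugen, val6])

theorem gradedBasis_two : GradedBasis R 2 := by
  let b := (((basisMonomials (Fin 6) R).map (sixEquiv R).toLinearEquiv).reindex
    Finsupp.equivFunOnFinite)
  refine ⟨Fin 6 → ℕ, fun s ↦ ∑ i, s i, b, Count.finite_tuples 6, fun s ↦ ?_, ?_⟩
  · have hb : b s =
        aeval (six R) (basisMonomials (Fin 6) R (Finsupp.equivFunOnFinite.symm s)) := by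
      rw [Module.Basis.reindex_apply, Module.Basis.map_apply]; rfl
    rw [hb, coe_basisMonomials]
    show aeval (six R) (monomial (Finsupp.equivFunOnFinite.symm s) 1) ∈ _
    rw [aeval_monomial, map_one, one_mul, Finsupp.prod_fintype _ _ (by simp)]
    have hs : ∀ i, six R i ∈ upiece R 2 1 := by
      intro i
      fin_cases i
      · exact ugen_mem_upiece (R := R) (m := 2) .a
      · exact ugen_mem_upiece (R := R) (m := 2) (.ci 0)
      · exact ugen_mem_upiece (R := R) (m := 2) (.cbi 0)
      · exact ugen_mem_upiece (R := R) (m := 2) (.ci 1)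
      · exact ugen_mem_upiece (R := R) (m := 2) (.cbi 1)
      · exact ugen_mem_upiece (R := R) (m := 2) (.cij 0 1 Fin.zero_ne_one)
    suffices ∀ t : Finset (Fin 6),
        ∏ i ∈ t, six R i ^ s i ∈ upiece R 2 (∑ i ∈ t, s i) by simpa using this Finset.univ
    intro t
    induction t using Finset.induction_on with
    | empty => simpa using one_mem_upiece
    | insert a t ha ih =>
      rw [Finset.prod_insert ha, Finset.sum_insert ha]
      simpa using mul_mem_upiece (pow_mem_upiece (hs a) (s a)) ih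
  · rw [Count.gen_tuples]
    simp [uhilb]

theorem gradedBasis : ∀ {m : ℕ}, 2 ≤ m → GradedBasis R m := by
  intro m hm
  induction m, hm using Nat.le_induction with
  | base => exact gradedBasis_two
  | succ n hn ih => exact gradedBasis_succ hn ih

/-- The pieces are spanned by the basis elements of that degree. -/
theorem upiece_eq_span {ι : Type*} (deg : ι → ℕ) (b : Module.Basis ι R (URing R m))
    (hmem : ∀ i, b i ∈ upiece R m (deg i)) (d : ℕ) :
    upiece R m d = Submodule.span R (b '' {i | deg i = d}) := by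
  classical
  refine le_antisymm ?_ (Submodule.span_le.mpr (by rintro _ ⟨i, rfl, rfl⟩; exact hmem i))
  let G : UGen m → Polynomial (URing R m) := fun g ↦ Polynomial.C (ugen R m g) * Polynomial.X ^ uwt g
  have key : ∀ (e : ℕ) (p : MvPolynomial (UGen m) R), IsWeightedHomogeneous uwt p e →
      aeval G p = Polynomial.C (Ideal.Quotient.mk _ p) * Polynomial.X ^ e := by
    intro e p hp
    have hmono : ∀ s ∈ p.support, aeval G (monomial s (coeff s p)) =
        Polynomial.C (Ideal.Quotient.mk _ (monomial s (coeff s p))) * Polynomial.X ^ e := by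
      intro s hs
      rw [← hp (mem_support_iff.mp hs), Finsupp.weight_apply, aeval_monomial, monomial_eq]
      simp only [Finsupp.prod, Finsupp.sum, smul_eq_mul, map_mul, map_prod, map_pow, G]
      rw [Finset.prod_congr rfl (g := fun x ↦ Polynomial.C (ugen R m x) ^ s x *
        Polynomial.X ^ (s x * uwt x)) (fun x _ ↦ by rw [Commute.mul_pow (Polynomial.commute_X_pow _ _).symm, ← pow_mul, mul_comm (uwt x)]),
        Finset.prod_mul_distrib, Finset.prod_pow_eq_pow_sum, mul_assoc]
      rfl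
    conv_lhs => rw [p.as_sum]
    conv_rhs => rw [p.as_sum]
    rw [map_sum, map_sum, map_sum, Finset.sum_mul]
    exact Finset.sum_congr rfl hmono
  have hker : ∀ p ∈ Ideal.span (URel R m), aeval G p = 0 := by
    intro p hp
    refine (Ideal.span_le.mpr ?_ : Ideal.span (URel R m) ≤ RingHom.ker (aeval G).toRingHom) hp
    intro q hq
    have h0 : Ideal.Quotient.mk (Ideal.span (URel R m)) q = 0 :=
      Ideal.Quotient.eq_zero_iff_mem.mpr (Ideal.subset_span hq)
    have h1 : ∀ g : UGen m, uwt g = 1 →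
        IsWeightedHomogeneous uwt (X g : MvPolynomial (UGen m) R) 1 := fun g hg ↦ by
      have := isWeightedHomogeneous_X R uwt g
      rwa [hg] at this
    have hc : IsWeightedHomogeneous uwt (X .c : MvPolynomial (UGen m) R) 2 :=
      isWeightedHomogeneous_X R uwt _
    have hcb : IsWeightedHomogeneous uwt (X .cb : MvPolynomial (UGen m) R) 2 :=
      isWeightedHomogeneous_X R uwt _
    have h2 : ∀ g g' : UGen m, uwt g = 1 → uwt g' = 1 →
        IsWeightedHomogeneous uwt (X g * X g' : MvPolynomial (UGen m) R) 2 := fun g g' hg hg' ↦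
      IsWeightedHomogeneous.mul (h1 g hg) (h1 g' hg')
    obtain ⟨e, he⟩ : ∃ e, IsWeightedHomogeneous uwt q e := by
      simp only [URel, Set.mem_union, Set.mem_range] at hq
      rcases hq with ((⟨w, rfl⟩ | ⟨w, rfl⟩) | ⟨w, rfl⟩) | ⟨w, rfl⟩
      · exact ⟨1, ((h1 _ rfl).add (h1 _ rfl)).sub (((((h1 _ rfl).add (h1 _ rfl)).add
          (h1 _ rfl)).add (h1 _ rfl)).add (h1 _ rfl))⟩
      · exact ⟨2, (((h2 _ _ rfl rfl).add (h2 _ _ rfl rfl)).sub (h2 _ _ rfl rfl)).sub hc⟩
      · exact ⟨2, (((h2 _ _ rfl rfl).add (h2 _ _ rfl rfl)).sub (h2 _ _ rfl rfl)).sub hcb⟩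
      · refine ⟨2, ((((h2 _ _ rfl rfl).add (h2 _ _ rfl rfl)).sub (h2 _ _ rfl rfl)).add ?_).sub hc⟩
        exact IsWeightedHomogeneous.mul (m := 1) (n := 1)
          (((h1 _ rfl).add (h1 _ rfl)).add (h1 _ rfl)) (h1 _ rfl)
    show aeval G q = 0
    rw [key e q he, h0, map_zero, zero_mul]
  let Λ := Ideal.Quotient.liftₐ (Ideal.span (URel R m)) (aeval G) hker
  have hΛ : ∀ e, ∀ x ∈ upiece R m e, Λ x = Polynomial.C x * Polynomial.X ^ e := by
    intro e x hx
    obtain ⟨p, hp, rfl⟩ := (GrQuot.mem_quot_iff _ _ _ _).mp hx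
    exact key e p hp
  intro x hx
  have hxe := hΛ d x hx
  conv_lhs at hxe => rw [← b.linearCombination_repr x, Finsupp.linearCombination_apply]
  have := congrArg (fun P ↦ Polynomial.coeff P d) hxe
  simp only [map_finsuppSum, map_sum, map_smul, hΛ _ _ (hmem _), Finsupp.sum, Polynomial.finsetSum_coeff,
    Polynomial.coeff_smul, Polynomial.coeff_C_mul_X_pow, if_true] at this
  rw [← this]
  refine Submodule.sum_mem _ fun i _ ↦ ?_
  split_ifs with h
  · exact Submodule.smul_mem _ _ (Submodule.subset_span ⟨i, h.symm, rfl⟩)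
  · rw [smul_zero]; exact zero_mem _

end Groth.Agent.CurveU5Lib
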